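import Cfsg.Agent.Lib.BrauerArtin.Bound
import Cfsg.Agent.Lib.BrauerReynolds.Main
import Cfsg.Agent.Lib.PCore.Basic
import Mathlib.LinearAlgebra.Matrix.GeneralLinearGroup.Projective
import Mathlib.LinearAlgebra.Matrix.SpecialLinearGroup
import Mathlib.FieldTheory.Finite.Basic

/-!
# Perfect groups with a Sylow subgroup of prime order
-/

set_option autoImplicit false
set_option linter.style.haveILetI false
set_option linter.unusedSectionVars false

noncomputable section

namespace CfsgLib.BrauerArtin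

open Cfsg

universe u

/-- `PSL(2, F)` is `SL(2, F)` in characteristic two. -/
theorem exists_psl_equiv_sl (F : Type) [Field F] [Fintype F] {m : ℕ} (_hm : 0 < m)
    (hF : Fintype.card F = 2 ^ m) :
    Nonempty (Matrix.ProjectiveSpecialLinearGroup (Fin 2) F ≃* Matrix.SpecialLinearGroup (Fin 2) F) := by
  haveI : CharP F 2 := by
    haveI := Fact.mk Nat.prime_two
    exact charP_of_card_eq_prime_pow hF
  have hbot : Subgroup.center (Matrix.SpecialLinearGroup (Fin 2) F) = ⊥ := by
    rw [Subgroup.eq_bot_iff_forall]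
    intro A hA
    obtain ⟨r, hr, hrA⟩ := Matrix.SpecialLinearGroup.mem_center_iff.1 hA
    rw [Fintype.card_fin] at hr
    have hr1 : r = 1 := by
      have h2 : (2 : F) = 0 := CharTwo.two_eq_zero
      have h3 : (r - 1) ^ 2 = 0 := by linear_combination hr + (1 - r) * h2
      exact sub_eq_zero.1 (pow_eq_zero_iff (two_ne_zero) |>.1 h3)
    apply Subtype.ext
    rw [← hrA, hr1, map_one]
    rfl
  exact ⟨(QuotientGroup.quotientMulEquivOfEq hbot).trans QuotientGroup.quotientBot⟩

variable {G : Type u} [Group G] [Finite G] {p : ℕ} [hp : Fact p.Prime]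

/-- Brauer's theorem when the `p'`-core is trivial. -/
theorem core_free (P : Sylow p G) (h : Ctx p P) {n : ℕ}
    (hn : Nat.card (Sylow p G) = 1 + n * p) (hnr : ¬ Rep p n) :
    (∃ (F : Type) (_ : Field F) (_ : Fintype F), Fintype.card F = p ∧ 3 < p ∧
      Nonempty (G ≃* Matrix.ProjectiveSpecialLinearGroup (Fin 2) F)) ∨
    (∃ (m : ℕ) (F : Type) (_ : Field F) (_ : Fintype F), Fintype.card F = 2 ^ m ∧ p = 2 ^ m + 1 ∧
      3 < p ∧ Nonempty (G ≃* Matrix.SpecialLinearGroup (Fin 2) F)) := by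
  haveI : Fintype G := Fintype.ofFinite G
  obtain ⟨B⟩ := h.exists_blk
  have hC := h.cP_eq hn hnr B
  have hlt := h.two_mul_lt hn hnr B
  obtain ⟨u, hu, hu1⟩ := h.exists_u
  have hz : orderOf u = p := h.orderOf_of_mem hu hu1
  have hcent : Subgroup.centralizer ({u} : Set G) = Subgroup.zpowers u := by
    rw [h.centralizer_singleton hu hu1, hC, h.zpowers_eq hu hu1]
  have hbound : 2 * Nat.card (Sylow p G) < (p + 1) * (p + 2) := by
    rw [hn]
    have := hp.out.pos
    have : 2 * n * p ≤ (p + 2) * p := Nat.mul_le_mul_right _ (by omega)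
    nlinarith
  rcases CfsgLib.BrauerReynolds.main h.perfect p u hz hcent hbound with
    h1 | ⟨m, F, iF, iT, hF, hpm, h3, ⟨e⟩⟩
  · exact Or.inl h1
  · refine Or.inr ⟨m, F, iF, iT, hF, hpm, h3, ?_⟩
    have hm : 0 < m := by
      rcases Nat.eq_zero_or_pos m with e0 | e0
      · rw [e0, pow_zero] at hpm; omega
      · exact e0
    obtain ⟨e'⟩ := exists_psl_equiv_sl F hm hF
    exact ⟨e.trans e'⟩

/-- The group modulo its `p'`-core. -/
theorem ctx_quotient (hperf : commutator G = ⊤) (P : Sylow p G) (hP : Nat.card P = p)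
    [hN : (Cfsg.pPrimeCore p G).Normal] :
    ∃ Q : Sylow p (G ⧸ Cfsg.pPrimeCore p G), Ctx p Q ∧
      Nat.card (Sylow p (G ⧸ Cfsg.pPrimeCore p G)) ∣ Nat.card (Sylow p G) := by
  set H := Cfsg.pPrimeCore p G with hH
  have hHp : ¬ p ∣ Nat.card H := CfsgLib.PCore.not_dvd_card_pPrimeCore
  let π := QuotientGroup.mk' H
  have hsurj : Function.Surjective π := QuotientGroup.mk'_surjective H
  refine ⟨P.mapSurjective hsurj, ⟨?_, ?_, ?_⟩, ?_⟩
  · have e := congrArg (Subgroup.map π) hperf
    rwa [commutator_def, Subgroup.map_commutator, Subgroup.map_top_of_surjective π hsurj,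
      ← commutator_def] at e
  · show Nat.card ((P : Subgroup G).map π) = p
    have h1 : Nat.card ((P : Subgroup G).map π) ∣ p := by
      conv_rhs => rw [← hP]
      exact (P : Subgroup G).card_map_dvd π
    refine ((Nat.dvd_prime hp.out).1 h1).resolve_left fun e => ?_
    rw [Subgroup.card_eq_one, Subgroup.map_eq_bot_iff, QuotientGroup.ker_mk'] at e
    have h3 := Subgroup.card_dvd_of_le e
    rw [show Nat.card (P : Subgroup G) = p from hP] at h3
    exact hHp h3
  · intro K hK hKp
    have hKn : (K.comap π).Normal := hK.comap π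
    have hle : K.comap π ≤ H := by
      refine CfsgLib.PCore.le_pPrimeCore_of_not_dvd hKn fun hd => ?_
      have h4 : Nat.card (K.comap π) = Nat.card H * Nat.card K := by
        have e1 := (K.comap π).card_mul_index
        rw [Subgroup.index_comap_of_surjective K hsurj, H.card_eq_card_quotient_mul_card_subgroup,
          ← K.card_mul_index] at e1
        refine Nat.eq_of_mul_eq_mul_right
          (Nat.pos_of_ne_zero (Subgroup.index_ne_zero_of_finite (H := K))) ?_
        rw [e1]
        ring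
      rw [h4] at hd
      exact (hp.out.dvd_mul.1 hd).elim hHp hKp
    rw [Subgroup.eq_bot_iff_forall]
    intro x hx
    obtain ⟨g, rfl⟩ := hsurj x
    exact (QuotientGroup.eq_one_iff g).2 (hle hx)
  · rw [(P.mapSurjective hsurj).card_eq_index_normalizer, P.card_eq_index_normalizer]
    have h1 : (Subgroup.normalizer ((P : Subgroup G) : Set G)).map π ≤
        Subgroup.normalizer (((P : Subgroup G).map π : Subgroup (G ⧸ H)) : Set (G ⧸ H)) :=
      Subgroup.le_normalizer_map π
    exact (Subgroup.index_dvd_of_le h1).trans (Subgroup.index_map_dvd _ hsurj)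

/-- **Brauer's theorem.** -/
theorem main (hperf : commutator G = ⊤) (P : Sylow p G) (hP : Nat.card P = p) {n : ℕ}
    (hn : Nat.card (Sylow p G) = 1 + n * p) :
    (∃ (F : Type) (_ : Field F) (_ : Fintype F), Fintype.card F = p ∧ 3 < p ∧
      Nonempty (G ⧸ Cfsg.pPrimeCore p G ≃* Matrix.ProjectiveSpecialLinearGroup (Fin 2) F)) ∨
    (∃ (m : ℕ) (F : Type) (_ : Field F) (_ : Fintype F), Fintype.card F = 2 ^ m ∧ p = 2 ^ m + 1 ∧
      3 < p ∧ Nonempty (G ⧸ Cfsg.pPrimeCore p G ≃* Matrix.SpecialLinearGroup (Fin 2) F)) ∨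
    Rep p n := by
  by_cases hnr : Rep p n
  · exact Or.inr (Or.inr hnr)
  obtain ⟨Q, hctx, hdvd⟩ := ctx_quotient hperf P hP
  obtain ⟨k, hk⟩ := hdvd
  have hp2 := hp.out.two_le
  have hmodQ := card_sylow_modEq_one p (G ⧸ Cfsg.pPrimeCore p G)
  have hposQ : 1 ≤ Nat.card (Sylow p (G ⧸ Cfsg.pPrimeCore p G)) := Nat.card_pos
  obtain ⟨n', hn'⟩ := (Nat.modEq_iff_dvd' hposQ).1 hmodQ.symm
  have hQ : Nat.card (Sylow p (G ⧸ Cfsg.pPrimeCore p G)) = 1 + n' * p := by
    rw [mul_comm n']; omega
  have hn'0 : 0 < n' := by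
    haveI : Fintype (G ⧸ Cfsg.pPrimeCore p G) := Fintype.ofFinite _
    exact hctx.n_pos hQ
  rw [hQ, hn] at hk
  have hk0 : 1 ≤ k := by
    rcases Nat.eq_zero_or_pos k with e | e
    · rw [e, mul_zero] at hk; omega
    · exact e
  obtain ⟨j, hj⟩ : p ∣ k - 1 := by
    have h4 : 1 + n * p ≡ k [MOD p] := by
      rw [hk]
      have : 1 + n' * p ≡ 1 [MOD p] := by rw [Nat.ModEq, Nat.add_mul_mod_self_right]
      simpa using this.mul_right k
    have h5 : 1 + n * p ≡ 1 [MOD p] := by rw [Nat.ModEq, Nat.add_mul_mod_self_right]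
    exact (Nat.modEq_iff_dvd' hk0).1 (h5.symm.trans h4)
  rcases Nat.eq_zero_or_pos j with hj0 | hj0
  · rw [hj0, mul_zero] at hj
    rw [show k = 1 by omega, mul_one] at hk
    have : n = n' := Nat.eq_of_mul_eq_mul_right hp.out.pos (by omega)
    subst this
    rcases core_free Q hctx hQ hnr with h1 | h1
    · exact Or.inl h1
    · exact Or.inr (Or.inl h1)
  · exact absurd (rep_of_mul hp.out.pos hn'0 hj0 (by
      rw [hk, show k = 1 + j * p by rw [mul_comm]; omega])) hnr

end CfsgLib.BrauerArtin
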