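import Mathlib.Data.Int.ModEq
import Mathlib.RingTheory.Int.Basic
import Mathlib.Algebra.Order.BigOperators.Group.Finset
import Mathlib.Data.Fintype.Basic
import Mathlib.Tactic.LinearCombination
import Mathlib.Tactic.Positivity

/-!
# The representation `n (u + 1) = h u p + u² + u + h`
-/

set_option autoImplicit false

namespace CfsgLib.BrauerArtin

/-- `n` has the form of the third alternative. -/
def Rep (p n : ℕ) : Prop :=
  ∃ h u : ℕ, 0 < h ∧ 0 < u ∧ n * (u + 1) = h * u * p + u ^ 2 + u + h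

/-- A product of two nontrivial factors congruent to `1` gives a representation. -/
theorem rep_of_mul {p n u k : ℕ} (hp : 0 < p) (hu : 0 < u) (hk : 0 < k)
    (h : 1 + n * p = (1 + u * p) * (1 + k * p)) : Rep p n := by
  refine ⟨k * (u + 1), u, by positivity, hu, ?_⟩
  have hn : n = u + k + u * k * p := by
    apply Nat.eq_of_mul_eq_mul_right hp
    linarith
  rw [hn]
  ring

/-- A representation is not small. -/
theorem Rep.ge {p n : ℕ} (h : Rep p n) : p + 3 ≤ 2 * n := by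
  obtain ⟨a, u, ha, hu, he⟩ := h
  by_contra hlt
  have h1 : u * p + u ^ 2 + u + 1 ≤ n * (u + 1) := by
    rw [he]
    have : u * p ≤ a * u * p := Nat.mul_le_mul_right p (Nat.le_mul_of_pos_left u ha)
    omega
  have h2 : 2 * n * (u + 1) ≤ (p + 2) * (u + 1) := Nat.mul_le_mul_right _ (by omega)
  obtain ⟨v, rfl⟩ : ∃ v, u = v + 1 := ⟨u - 1, by omega⟩
  nlinarith

theorem exists_cofactor {D e N : ℕ} (hD : D ∣ e * N) :
    ∃ d q : ℕ, d ∣ e ∧ d ∣ D ∧ D * q = d * N := by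
  have h : D ∣ Nat.gcd e D * N := by
    rw [Nat.gcd_comm]
    exact (Nat.dvd_gcd_mul_iff_dvd_mul).2 hD
  obtain ⟨q, hq⟩ := h
  exact ⟨Nat.gcd e D, q, Nat.gcd_dvd_left e D, Nat.gcd_dvd_right e D, hq.symm⟩

variable {p e n D : ℕ}

theorem pos_cast {d : ℕ} (hde : d ∣ e) (he : 0 < e) : (0 : ℤ) < d := by
  exact_mod_cast Nat.pos_of_dvd_of_pos hde he

/-- Degrees congruent to `1`. -/
theorem deg_plus (hp : p.Prime) (hep : e ∣ p - 1) (he : 0 < e) (hnr : ¬ Rep p n)
    (hD : D ∣ e * (1 + n * p)) (hmod : (p : ℤ) ∣ (D : ℤ) - 1) (hD1 : 1 < D) : D = 1 + n * p := by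
  obtain ⟨d, q, hde, hdD, hq⟩ := exists_cofactor hD
  obtain ⟨u, hu⟩ := hmod
  have hd0 := pos_cast hde he
  have hp0 : (0 : ℤ) < p := by exact_mod_cast hp.pos
  have hdp : (d : ℤ) < p := by
    have := Nat.le_of_dvd (by have := hp.two_le; omega) (hde.trans hep)
    have := hp.two_le
    omega
  have hu0 : 0 < u := pos_of_mul_pos_right (show (0 : ℤ) < (p : ℤ) * u by omega) hp0.le
  have hq' : (D : ℤ) * q = d * (1 + n * p) := by exact_mod_cast hq
  obtain ⟨j, hj⟩ : (p : ℤ) ∣ (q : ℤ) - d := ⟨(d : ℤ) * n - u * q, by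
    linear_combination hq' - (q : ℤ) * hu⟩
  have hj0 : 0 ≤ j := by
    by_contra hneg
    have : (p : ℤ) * j ≤ p * (-1) := mul_le_mul_of_nonneg_left (by omega) hp0.le
    have hq0 : (0 : ℤ) ≤ q := Int.natCast_nonneg q
    omega
  rcases hj0.eq_or_lt with hj0 | hj0
  · have hqd : (q : ℤ) = d := by rw [← hj0, mul_zero] at hj; linarith
    rw [hqd, mul_comm] at hq'
    exact_mod_cast mul_left_cancel₀ hd0.ne' hq'
  · exfalso
    obtain ⟨P1, hP1⟩ : (d : ℤ) ∣ (p : ℤ) - 1 := by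
      have := Int.natCast_dvd_natCast.2 (hde.trans hep)
      rwa [Nat.cast_sub hp.one_le, Nat.cast_one] at this
    obtain ⟨D', hD'⟩ : (d : ℤ) ∣ (D : ℤ) := Int.natCast_dvd_natCast.2 hdD
    obtain ⟨w, hw⟩ : (d : ℤ) ∣ u + 1 := ⟨D' - P1 * u, by linear_combination hD' - hu - u * hP1⟩
    have hw0 : 0 < w := pos_of_mul_pos_right (show (0 : ℤ) < (d : ℤ) * w by omega) hd0.le
    have hkey : (d : ℤ) * n = u * j * p + u * d + j := by
      apply mul_left_cancel₀ hp0.ne'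
      linear_combination -hq' + (q : ℤ) * hu + ((p : ℤ) * u + 1) * hj
    refine hnr ⟨(j * w).toNat, u.toNat, ?_, ?_, ?_⟩
    · have : 0 < j * w := mul_pos hj0 hw0
      omega
    · omega
    · zify
      rw [Int.toNat_of_nonneg (mul_pos hj0 hw0).le, Int.toNat_of_nonneg hu0.le]
      apply mul_left_cancel₀ hd0.ne'
      linear_combination (u + 1) * hkey + (u * j * p + j) * hw

/-- Degrees congruent to `-1`. -/
theorem deg_minus (hp : p.Prime) (hep : e ∣ p - 1) (he : 0 < e) (hnr : ¬ Rep p n)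
    (hD : D ∣ e * (1 + n * p)) (hmod : (p : ℤ) ∣ (D : ℤ) + 1) (hD0 : 0 < D) :
    D = p - 1 ∨ (e = p - 1 ∧ D = (p - 1) * (1 + n * p)) := by
  obtain ⟨d, q, hde, hdD, hq⟩ := exists_cofactor hD
  obtain ⟨u, hu⟩ := hmod
  have hd0 := pos_cast hde he
  have hp0 : (0 : ℤ) < p := by exact_mod_cast hp.pos
  have hu0 : 0 < u := pos_of_mul_pos_right (show (0 : ℤ) < (p : ℤ) * u by omega) hp0.le
  rcases (show 1 ≤ u from hu0).eq_or_lt with hu1 | hu1
  · left
    rw [← hu1, mul_one] at hu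
    omega
  have hq' : (D : ℤ) * q = d * (1 + n * p) := by exact_mod_cast hq
  obtain ⟨j, hj⟩ : (p : ℤ) ∣ (q : ℤ) + d := ⟨u * q - (d : ℤ) * n, by
    linear_combination -hq' + (q : ℤ) * hu⟩
  have hj0 : 0 < j := pos_of_mul_pos_right (show (0 : ℤ) < (p : ℤ) * j by omega) hp0.le
  obtain ⟨P1, hP1⟩ : (d : ℤ) ∣ (p : ℤ) - 1 := by
    have := Int.natCast_dvd_natCast.2 (hde.trans hep)
    rwa [Nat.cast_sub hp.one_le, Nat.cast_one] at this
  have hp2 : (2 : ℤ) ≤ p := by exact_mod_cast hp.two_le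
  have hP10 : 0 < P1 := pos_of_mul_pos_right (show (0 : ℤ) < (d : ℤ) * P1 by omega) hd0.le
  obtain ⟨D', hD'⟩ : (d : ℤ) ∣ (D : ℤ) := Int.natCast_dvd_natCast.2 hdD
  obtain ⟨w, hw⟩ : (d : ℤ) ∣ u - 1 := ⟨D' - P1 * u, by linear_combination hD' - hu - u * hP1⟩
  have hw0 : 0 < w := pos_of_mul_pos_right (show (0 : ℤ) < (d : ℤ) * w by omega) hd0.le
  have hkey : (d : ℤ) * n = j * u * p - u * d - j := by
    apply mul_left_cancel₀ hp0.ne'
    linear_combination -hq' + (q : ℤ) * hu + ((p : ℤ) * u - 1) * hj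
  rcases (show 1 ≤ j * P1 from mul_pos hj0 hP10).eq_or_lt with h1 | h1
  · right
    have hj1 : j = 1 := Int.eq_one_of_mul_eq_one_right hj0.le h1.symm
    rw [hj1, one_mul] at h1
    have hdp : (d : ℤ) = (p : ℤ) - 1 := by rw [hP1, ← h1, mul_one]
    have hq1 : (q : ℤ) = 1 := by rw [hj1, mul_one] at hj; linarith
    rw [hq1, mul_one] at hq'
    have hd : d = p - 1 := by omega
    refine ⟨Nat.dvd_antisymm hep (hd ▸ hde), ?_⟩
    rw [← hd]
    exact_mod_cast hq'
  · exfalso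
    refine hnr ⟨(j * w).toNat, (j * P1 - 1).toNat, ?_, ?_, ?_⟩
    · have : 0 < j * w := mul_pos hj0 hw0
      omega
    · omega
    · zify
      rw [Int.toNat_of_nonneg (mul_pos hj0 hw0).le, Int.toNat_of_nonneg (show 0 ≤ j * P1 - 1 by omega)]
      apply mul_left_cancel₀ hd0.ne'
      linear_combination (j * P1) * hkey + (j * (j * P1 * p - p + 1)) * hw +
        (j * (u + j * P1 - 1)) * hP1

/-- Degrees congruent to `e`. -/
theorem deg_exceptional (hp : p.Prime) (hep : e ∣ p - 1) (he : 0 < e) (hnr : ¬ Rep p n)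
    (hD : D ∣ e * (1 + n * p)) (hmod : (p : ℤ) ∣ (D : ℤ) - e) (hD0 : 0 < D) :
    D = e ∨ D = e * (1 + n * p) := by
  obtain ⟨d, q, hde, hdD, hq⟩ := exists_cofactor hD
  obtain ⟨v, hv⟩ := hmod
  have hd0 := pos_cast hde he
  have hp0 : (0 : ℤ) < p := by exact_mod_cast hp.pos
  have hep' : (e : ℤ) < p := by
    have := Nat.le_of_dvd (by have := hp.two_le; omega) hep
    have := hp.two_le
    omega
  have hv0 : 0 ≤ v := by
    by_contra hneg
    have : (p : ℤ) * v ≤ p * (-1) := mul_le_mul_of_nonneg_left (by omega) hp0.le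
    have hD0' : (0 : ℤ) < D := by exact_mod_cast hD0
    omega
  rcases hv0.eq_or_lt with hv1 | hv1
  · left
    rw [← hv1, mul_zero] at hv
    omega
  obtain ⟨e', he'⟩ : (d : ℤ) ∣ (e : ℤ) := Int.natCast_dvd_natCast.2 hde
  have he0' : 0 < e' := pos_of_mul_pos_right (show (0 : ℤ) < (d : ℤ) * e' by omega) hd0.le
  obtain ⟨D', hD'⟩ : (d : ℤ) ∣ (D : ℤ) := Int.natCast_dvd_natCast.2 hdD
  obtain ⟨P1, hP1⟩ : (e : ℤ) ∣ (p : ℤ) - 1 := by
    have := Int.natCast_dvd_natCast.2 hep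
    rwa [Nat.cast_sub hp.one_le, Nat.cast_one] at this
  obtain ⟨v', hv'⟩ : (d : ℤ) ∣ v := ⟨D' - e' - e' * P1 * v, by
    linear_combination hD' - hv - he' - v * hP1 - v * P1 * he'⟩
  have hv'0 : 0 < v' := pos_of_mul_pos_right (show (0 : ℤ) < (d : ℤ) * v' by omega) hd0.le
  have hq' : (D : ℤ) * q = d * (1 + n * p) := by exact_mod_cast hq
  have hq2 : ((p : ℤ) * v' + e') * q = 1 + n * p := by
    apply mul_left_cancel₀ hd0.ne'
    linear_combination hq' - (q : ℤ) * hv - (p : ℤ) * q * hv' - (q : ℤ) * he'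
  obtain ⟨u', hu'⟩ : (p : ℤ) ∣ (q : ℤ) * e' - 1 := ⟨(n : ℤ) - v' * q, by linear_combination hq2⟩
  have hq0 : (0 : ℤ) < q := by
    rcases Nat.eq_zero_or_pos q with h0 | h0
    · rw [h0, Nat.cast_zero, mul_zero] at hq'
      have h1 : (0 : ℤ) < (d : ℤ) * (1 + n * p) := by positivity
      linarith
    · exact_mod_cast h0
  have hu0 : 0 ≤ u' := by
    by_contra hneg
    have : (p : ℤ) * u' ≤ p * (-1) := mul_le_mul_of_nonneg_left (by omega) hp0.le
    have : 0 < (q : ℤ) * e' := mul_pos hq0 he0'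
    omega
  rcases hu0.eq_or_lt with hu1 | hu1
  · right
    rw [← hu1, mul_zero, sub_eq_zero] at hu'
    have hq1 : (q : ℤ) = 1 := Int.eq_one_of_mul_eq_one_right hq0.le hu'
    rw [hq1, one_mul] at hu'
    rw [hq1, mul_one] at hq'
    rw [hu', mul_one] at he'
    rw [← he'] at hq'
    exact_mod_cast hq'
  · exfalso
    obtain ⟨w, hw⟩ : e' ∣ u' + 1 := ⟨(q : ℤ) - d * P1 * u', by
      linear_combination -hu' - u' * hP1 - u' * P1 * he'⟩
    have hw0 : 0 < w := pos_of_mul_pos_right (show (0 : ℤ) < e' * w by omega) he0'.le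
    refine hnr ⟨(v' * w).toNat, u'.toNat, ?_, ?_, ?_⟩
    · have : 0 < v' * w := mul_pos hv'0 hw0
      omega
    · omega
    · zify
      rw [Int.toNat_of_nonneg (mul_pos hv'0 hw0).le, Int.toNat_of_nonneg hu1.le]
      apply mul_left_cancel₀ hp0.ne'
      linear_combination -(u' + 1) * hq2 + (u' + 1 + v' * (p : ℤ) * w) * hu' +
        (p : ℤ) * v' * (q : ℤ) * hw

/-- Sums of two-valued functions. -/
theorem sum_two_valued {ι : Type*} (Z : Finset ι) (s : ι → ℤ) (f : ι → ℤ) (A B : ℤ)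
    [DecidablePred fun i => s i = 1]
    (hA : ∀ i ∈ Z, s i = 1 → f i = A) (hB : ∀ i ∈ Z, s i ≠ 1 → f i = B) :
    ∑ i ∈ Z, f i = ((Z.filter fun i => s i = 1).card : ℤ) * A +
      ((Z.filter fun i => ¬ s i = 1).card : ℤ) * B := by
  rw [← Finset.sum_filter_add_sum_filter_not Z (fun i => s i = 1),
    Finset.sum_congr rfl fun i hi => hA i (Finset.mem_filter.1 hi).1 (Finset.mem_filter.1 hi).2,
    Finset.sum_congr rfl fun i hi => hB i (Finset.mem_filter.1 hi).1 (Finset.mem_filter.1 hi).2,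
    Finset.sum_const, Finset.sum_const, nsmul_eq_mul, nsmul_eq_mul]

end CfsgLib.BrauerArtin
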