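import Cfsg.Agent.Lib.BrauerArtin.Sums

/-!
# The bound on the number of Sylow subgroups
-/

set_option autoImplicit false
set_option linter.style.haveILetI false
set_option linter.unusedSectionVars false

noncomputable section

namespace CfsgLib.BrauerArtin

open Cfsg CfsgLib.Characters CfsgLib.FrobSchur
open scoped ComplexConjugate

universe u

variable {G : Type u} [Group G] [Fintype G] {p : ℕ} [hp : Fact p.Prime] {P : Sylow p G}

/-- The Frobenius–Schur indicator as an integer. -/
theorem exists_fs_int (ψ : IrrCharacter G) :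
    ∃ k : ℤ, fsInd (ψ : G → ℂ) = (k : ℂ) ∧ -1 ≤ k ∧ k ≤ 1 := by
  rcases fsInd_cases ψ.2 with ⟨-, e | e⟩ | ⟨-, e⟩
  · exact ⟨1, by rw [e]; simp, by norm_num, le_rfl⟩
  · exact ⟨-1, by rw [e]; simp, le_rfl, by norm_num⟩
  · exact ⟨0, by rw [e]; simp, by norm_num, by norm_num⟩

theorem fsInd_principal_eq : fsInd ((principalIrr G : IrrCharacter G) : G → ℂ) = 1 := by
  rw [fsInd_eq_sum]
  simp only [principalIrr_apply, Finset.sum_const, Finset.card_univ, nsmul_one,
    ← Nat.card_eq_fintype_card]
  exact inv_mul_cancel₀ (Nat.cast_ne_zero.2 Nat.card_pos.ne')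

open Classical in
/-- The number of square roots. -/
def sqrtCount (g : G) : ℂ := ((Finset.univ.filter fun s : G => s * s = g).card : ℂ)

theorem sqrtCount_expand (z : G) :
    sqrtCount z = ∑ ψ : IrrCharacter G, fsInd (ψ : G → ℂ) * (ψ : G → ℂ) z := by
  classical
  have hcl : IsClassFunction G (sqrtCount (G := G)) := by
    intro a b
    show sqrtCount (b * a * b⁻¹) = sqrtCount a
    unfold sqrtCount
    refine congrArg Nat.cast (Finset.card_equiv (MulAut.conj b).toEquiv fun s => ?_).symm
    simp only [Finset.mem_filter, Finset.mem_univ, true_and, MulEquiv.toEquiv_eq_coe,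
      EquivLike.coe_coe, ← map_mul]
    rw [← MulAut.conj_apply]
    exact (MulAut.conj b).injective.eq_iff.symm
  have e := congrFun (classFunction_eq_sum hcl) z
  simp only [Finset.sum_apply, Pi.smul_apply, smul_eq_mul] at e
  rw [e]
  refine Finset.sum_congr rfl fun ψ _ => ?_
  congr 1
  obtain ⟨k, hk, -⟩ := exists_fs_int ψ
  have h1 : classInner sqrtCount (ψ : G → ℂ) = conj (fsInd (ψ : G → ℂ)) := by
    rw [fsInd_eq_sum, map_mul, map_inv₀, map_natCast, map_sum, classInner]
    congr 1
    simp only [sqrtCount, ← Finset.sum_boole, Finset.sum_mul]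
    rw [Finset.sum_comm]
    simp only [ite_mul, one_mul, zero_mul, Finset.sum_ite_eq, Finset.mem_univ, if_true]
  rw [h1, hk, map_intCast]

variable (h : Ctx p P) {n : ℕ} (hn : Nat.card (Sylow p G) = 1 + n * p) (hC : cP P = (P : Subgroup G))
include h hC

theorem Ctx.sqrtCount_sing {g : G} (hg : p ∣ orderOf g) : sqrtCount g = ((1 : ℤ) : ℂ) := by
  classical
  refine h.value_sing hC (f := sqrtCount) ?_ (fun u hu hu1 => ?_) hg
  · intro a b
    show sqrtCount (b * a * b⁻¹) = sqrtCount a
    rw [sqrtCount_expand, sqrtCount_expand]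
    exact Finset.sum_congr rfl fun ψ _ => by rw [irr_isClassFunction ψ a b]
  · unfold sqrtCount
    have hodd := h.odd
    obtain ⟨k, hk⟩ := hp.out.odd_of_ne_two hodd
    have hup : orderOf u = p := h.orderOf_of_mem hu hu1
    have hset : (Finset.univ.filter fun s : G => s * s = u) = {u ^ (k + 1)} := by
      ext s
      simp only [Finset.mem_filter, Finset.mem_univ, true_and, Finset.mem_singleton]
      constructor
      · intro hs
        have hcomm : s * u = u * s := by rw [← hs, mul_assoc]
        have hsP : s ∈ (P : Subgroup G) := by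
          rw [← hC]
          rw [← h.centralizer_singleton hu hu1]
          exact Subgroup.mem_centralizer_singleton_iff.2 hcomm
        have hsp : s ^ p = 1 := by
          by_cases hs1 : s = 1
          · rw [hs1, one_pow]
          · rw [← h.orderOf_of_mem hsP hs1, pow_orderOf_eq_one]
        rw [← hs, ← sq, ← pow_mul, show 2 * (k + 1) = p + 1 by omega, pow_succ, hsp, one_mul]
      · rintro rfl
        rw [← pow_add, show k + 1 + (k + 1) = p + 1 by omega, pow_succ, ← hup, pow_orderOf_eq_one,
          one_mul]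
    rw [hset, Finset.card_singleton]
    simp

/-- The alternating square of a character of degree `p - 1`. -/
theorem Ctx.wedge (B : Blk p P) {χ : IrrCharacter G} (hχ : χ ∈ B.Z) (hs : B.s χ = -1)
    (hd : charDegree (χ : G → ℂ) = p - 1) :
    ∃ m : IrrCharacter G → ℕ,
      (∀ z, ((χ : G → ℂ) z * (χ : G → ℂ) z - (χ : G → ℂ) (z * z)) / 2 =
        ∑ ψ : IrrCharacter G, (m ψ : ℂ) * (ψ : G → ℂ) z) ∧
      (∀ z, p ∣ orderOf z →
        ((χ : G → ℂ) z * (χ : G → ℂ) z - (χ : G → ℂ) (z * z)) / 2 = ((1 : ℤ) : ℂ)) ∧
      (∀ T : Finset (IrrCharacter G),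
        2 * (∑ ψ ∈ T, (m ψ : ℤ) * (charDegree (ψ : G → ℂ) : ℤ)) ≤ ((p : ℤ) - 1) * ((p : ℤ) - 2)) ∧
      (m (principalIrr G) ≠ 0 → fsInd (χ : G → ℂ) = -1) := by
  classical
  have hA := CfsgLib.PermPrime.isCharacter_wedge (irr_isCharacter χ)
  set A : G → ℂ := fun z => ((χ : G → ℂ) z * (χ : G → ℂ) z - (χ : G → ℂ) (z * z)) / 2 with hAdef
  choose m hm using fun ψ : IrrCharacter G => classInner_char_nat hA (irr_isCharacter ψ)
  have hexp : ∀ z, A z = ∑ ψ : IrrCharacter G, (m ψ : ℂ) * (ψ : G → ℂ) z := fun z => by
    have e := congrFun (classFunction_eq_sum (isClassFunction_of_isCharacter hA)) z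
    simp only [Finset.sum_apply, Pi.smul_apply, smul_eq_mul, hm] at e
    exact e
  have hχ1 : (χ : G → ℂ) 1 = (p : ℂ) - 1 := by
    rw [← CfsgLib.Chars17.cast_irrDegree, hd, Nat.cast_sub hp.out.one_le, Nat.cast_one]
  refine ⟨m, hexp, fun z hz => ?_, fun T => ?_, fun hne => ?_⟩
  · have hz2 : p ∣ orderOf (z * z) := by
      rw [← sq, orderOf_pow, h.orderOf_sing hC hz]
      have : Nat.gcd p 2 = 1 := (Nat.coprime_primes hp.out Nat.prime_two).2 h.odd
      rw [this, Nat.div_one]
    rw [B.value_g h hC hχ hz, B.value_g h hC hχ hz2, hs]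
    norm_num
  · have e := hexp 1
    simp only [hAdef, mul_one, hχ1, ← CfsgLib.Chars17.cast_irrDegree] at e
    have e2 : ((p : ℤ) - 1) * ((p : ℤ) - 2) =
        2 * ∑ ψ : IrrCharacter G, (m ψ : ℤ) * (charDegree (ψ : G → ℂ) : ℤ) := by
      have e3 : (((p : ℤ) - 1) * ((p : ℤ) - 2) : ℤ) =
          ((2 * ∑ ψ : IrrCharacter G, (m ψ : ℤ) * (charDegree (ψ : G → ℂ) : ℤ) : ℤ) : ℂ) := by
        push_cast
        linear_combination 2 * e
      exact_mod_cast e3
    rw [e2]
    refine mul_le_mul_of_nonneg_left ?_ (by norm_num)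
    exact Finset.sum_le_sum_of_subset_of_nonneg (Finset.subset_univ T)
      fun ψ _ _ => by positivity
  · have e := hm (principalIrr G)
    rw [classInner] at e
    simp only [hAdef, principalIrr_apply, map_one, mul_one, ← Finset.sum_div,
      Finset.sum_sub_distrib] at e
    rcases fsInd_cases χ.2 with ⟨hr, e1 | e1⟩ | ⟨hnr, e1⟩
    · exfalso
      rw [fsInd_eq_sum] at e1
      have hsq := classInner_irr_self χ.2
      rw [classInner, Finset.sum_congr rfl fun z _ => show (χ : G → ℂ) z * conj ((χ : G → ℂ) z) =
        (χ : G → ℂ) z * (χ : G → ℂ) z by rw [Complex.conj_eq_iff_im.2 (hr z)]] at hsq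
      rw [← mul_div_assoc, mul_sub, hsq, e1, sub_self, zero_div] at e
      exact hne (by exact_mod_cast e.symm)
    · exact e1
    · exfalso
      rw [fsInd_eq_sum] at e1
      have hirr : IsIrrCharacter G (fun g => conj ((χ : G → ℂ) g)) :=
        CfsgLib.CharGalois.isIrrCharacter_map starRingAut χ.2
      have horth := classInner_irr_ne χ.2 hirr fun he => hnr fun g =>
        Complex.conj_eq_iff_im.1 (congrFun he g).symm
      rw [classInner, Finset.sum_congr rfl fun z _ =>
        show (χ : G → ℂ) z * conj (conj ((χ : G → ℂ) z)) = (χ : G → ℂ) z * (χ : G → ℂ) z by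
          rw [Complex.conj_conj]] at horth
      rw [← mul_div_assoc, mul_sub, horth, e1, sub_self, zero_div] at e
      exact hne (by exact_mod_cast e.symm)

set_option maxHeartbeats 3000000 in
omit hC in
include hn in
/-- **The bound.** -/
theorem Ctx.two_mul_lt (hnr : ¬ Rep p n) (B : Blk p P) : 2 * n < p + 3 := by
  classical
  have hC := h.cP_eq hn hnr B
  have he2 := h.two_le_eN
  obtain ⟨χ₀, hχ₀, hs₀, hd₀⟩ := h.exists_small hn hnr B
  have hn0 := h.n_pos hn
  have hp3 : 3 ≤ p := by have := hp.out.two_le; have := h.odd; omega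
  obtain ⟨t, ht⟩ := h.eN_mul
  set N : ℤ := 1 + (n : ℤ) * p with hN
  set e : ℤ := (eN P : ℤ) with hedef
  have hpz : (3 : ℤ) ≤ p := by exact_mod_cast hp3
  have hgoal : ∀ K : ℤ, 2 * N ≤ K → K ≤ (p : ℤ) * p → 2 * n < p + 3 := by
    intro K h1 h2
    have h3 : (p : ℤ) * (2 * n) < p * p := by linarith
    have h4 := lt_of_mul_lt_mul_left h3 (by linarith)
    omega
  set a := (B.Z.filter fun i => B.s i = 1).card with ha
  set b := (B.Z.filter fun i => ¬ B.s i = 1).card with hb
  have hab : a + b = B.Z.card := Finset.card_filter_add_card_filter_not _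
  have hb1 : 1 ≤ b := Finset.card_pos.2 ⟨χ₀, Finset.mem_filter.2 ⟨hχ₀, by omega⟩⟩
  choose ν hν hν1 hν2 using exists_fs_int (G := G)
  have hνexp : ∀ z, sqrtCount z = ∑ ψ : IrrCharacter G, (ν ψ : ℂ) * (ψ : G → ℂ) z := fun z => by
    simp only [sqrtCount_expand, hν]
  have hν0 : ν (principalIrr G) = 1 := by
    have h1 := hν (principalIrr G)
    rw [fsInd_principal_eq] at h1
    exact_mod_cast h1.symm
  by_cases he : eN P = p - 1
  · have hcard := B.card_Z he
    by_cases hedge : ∃ z ∈ B.Z, B.s z = -1 ∧ charDegree (z : G → ℂ) ≠ p - 1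
    · exfalso
      obtain ⟨z₀, hz₀, hs', hd'⟩ := hedge
      have h0 := B.rel_Z he (g := 1) (by rw [orderOf_one]; exact hp.out.not_dvd_one)
      simp only [← CfsgLib.Chars17.cast_irrDegree] at h0
      have h1 : (1 : ℤ) + ∑ z ∈ B.Z, B.s z * (charDegree (z : G → ℂ) : ℤ) = 0 := by
        exact_mod_cast h0
      have hne : χ₀ ≠ z₀ := fun e' => hd' (e' ▸ hd₀)
      have hz0d : (charDegree (z₀ : G → ℂ) : ℤ) = ((p : ℤ) - 1) * N := by
        rcases (h.degZ hn hnr B hz₀).2 hs' with e1 | ⟨-, e1⟩
        · exact absurd e1 hd'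
        · rw [e1, Nat.cast_mul, Nat.cast_sub hp.out.one_le]; push_cast; rw [hN]
      rw [← Finset.add_sum_erase _ _ hz₀, ← Finset.add_sum_erase _ _
        (Finset.mem_erase.2 ⟨hne, hχ₀⟩), hs', hs₀, hz0d, hd₀, Nat.cast_sub hp.out.one_le] at h1
      have hle : ∑ z ∈ (B.Z.erase z₀).erase χ₀, B.s z * (charDegree (z : G → ℂ) : ℤ) ≤
          ((B.Z.erase z₀).erase χ₀).card * N := by
        rw [← nsmul_eq_mul]
        refine Finset.sum_le_card_nsmul _ _ _ fun z hz => ?_
        have hzZ := Finset.mem_of_mem_erase (Finset.mem_of_mem_erase hz)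
        rcases B.sign hzZ with e1 | e1 <;> rw [e1]
        · rw [one_mul, (h.degZ hn hnr B hzZ).1 e1]; push_cast; exact le_rfl
        · have : (0 : ℤ) ≤ N := by rw [hN]; positivity
          have : (0 : ℤ) ≤ (charDegree (z : G → ℂ) : ℤ) := Int.natCast_nonneg _
          linarith
      rw [Finset.card_erase_of_mem (Finset.mem_erase.2 ⟨hne, hχ₀⟩), Finset.card_erase_of_mem hz₀,
        hcard] at hle
      have h3 : (((p - 1 - 1 - 1 : ℕ)) : ℤ) = (p : ℤ) - 3 := by omega
      rw [h3] at hle
      push_cast at h1
      have hN1 : 1 ≤ N := by rw [hN]; nlinarith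
      nlinarith
    · simp only [not_exists, not_and, not_not] at hedge
      have h0 := B.rel_Z he (g := 1) (by rw [orderOf_one]; exact hp.out.not_dvd_one)
      simp only [← CfsgLib.Chars17.cast_irrDegree] at h0
      have h1 : (1 : ℤ) + ∑ z ∈ B.Z, B.s z * (charDegree (z : G → ℂ) : ℤ) = 0 := by
        exact_mod_cast h0
      rw [sum_two_valued B.Z B.s _ N (-((p : ℤ) - 1))
        (fun z hz e1 => by rw [e1, one_mul, (h.degZ hn hnr B hz).1 e1]; push_cast; rw [hN])
        (fun z hz e1 => by
          have e1' := (B.sign hz).resolve_left e1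
          rw [e1', hedge z hz e1', Nat.cast_sub hp.out.one_le]; push_cast; ring)] at h1
      rw [← ha, ← hb] at h1
      rw [hcard] at hab
      have hab' : (a : ℤ) + b = (p : ℤ) - 1 := by omega
      have hb' : (b : ℤ) * ((p : ℤ) - 1) ≤ ((p : ℤ) - 1) * ((p : ℤ) - 1) :=
        mul_le_mul_of_nonneg_right (by omega) (by linarith)
      rcases (show a = 0 ∨ a = 1 ∨ 2 ≤ a by omega) with ha0 | ha1 | ha2
      · exfalso
        rw [ha0] at h1
        push_cast at h1
        have : (2 : ℤ) ≤ (b : ℤ) * ((p : ℤ) - 1) := by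
          have : (1 : ℤ) ≤ b := by exact_mod_cast hb1
          nlinarith
        linarith
      · -- exactly one character of degree `1 + n p`
        obtain ⟨z₁, hz₁⟩ := Finset.card_eq_one.1 (show (B.Z.filter fun i => B.s i = 1).card = 1 by
          omega)
        have hz1mem := Finset.mem_filter.1 (hz₁.symm ▸ Finset.mem_singleton_self z₁ :
          z₁ ∈ B.Z.filter fun i => B.s i = 1)
        by_cases hA : ∃ χ ∈ B.Z, B.s χ = -1 ∧ fsInd (χ : G → ℂ) ≠ -1
        · obtain ⟨χ, hχ, hs, hfs⟩ := hA
          obtain ⟨m, hexp, hsing, hle, hm1⟩ := h.wedge hC B hχ hs (hedge χ hχ hs)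
          have hm0 : m (principalIrr G) = 0 := by_contra fun e1 => hfs (hm1 e1)
          have hdec := h.decomp_full hC hn B he (fun ψ => (m ψ : ℤ))
            (fun z => by simpa using hexp z) 1 hsing
          rw [hm0] at hdec
          have hpos : 1 ≤ m z₁ := by
            by_contra hlt
            have hle0 : ∑ z ∈ B.Z, B.s z * (m z : ℤ) ≤ 0 := Finset.sum_nonpos fun z hz => by
              by_cases e1 : B.s z = 1
              · have hz' : z = z₁ := Finset.mem_singleton.1
                  (hz₁ ▸ Finset.mem_filter.2 ⟨hz, e1⟩)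
                rw [hz', show m z₁ = 0 by omega, Nat.cast_zero, mul_zero]
              · rw [(B.sign hz).resolve_left e1]
                have : (0 : ℤ) ≤ (m z : ℤ) := Int.natCast_nonneg _
                linarith
            push_cast at hdec
            linarith
          have h2 := hle {z₁}
          rw [Finset.sum_singleton, (h.degZ hn hnr B hz1mem.1).1 hz1mem.2] at h2
          push_cast at h2
          refine hgoal _ le_rfl ?_
          have hpos' : (1 : ℤ) ≤ (m z₁ : ℤ) := by exact_mod_cast hpos
          have : N ≤ (m z₁ : ℤ) * N := le_mul_of_one_le_left (by rw [hN]; positivity) hpos'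
          rw [hN] at this ⊢
          nlinarith
        · simp only [not_exists, not_and, not_not] at hA
          have hdec := h.decomp_full hC hn B he ν hνexp 1 fun z hz => h.sqrtCount_sing hC hz
          have hval : ∀ z ∈ B.Z, B.s z * ν z = if B.s z = 1 then ν z₁ else 1 := by
            intro z hz
            split_ifs with e1
            · rw [e1, one_mul, show z = z₁ from Finset.mem_singleton.1
                (hz₁ ▸ Finset.mem_filter.2 ⟨hz, e1⟩)]
            · have e1' := (B.sign hz).resolve_left e1
              have h2 := hν z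
              rw [hA z hz e1'] at h2
              have : ν z = -1 := by exact_mod_cast h2.symm
              rw [e1', this]; norm_num
          rw [hν0, sum_two_valued B.Z B.s _ (ν z₁) 1 (fun z hz e1 => by rw [hval z hz, if_pos e1])
            (fun z hz e1 => by rw [hval z hz, if_neg e1]), ← ha, ← hb] at hdec
          have := hν1 z₁
          rw [ha1] at hdec h1
          push_cast at hdec h1
          exfalso
          have hp3' : p = 3 := by omega
          subst hp3'
          push_cast at *
          rw [hN] at h1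
          omega
      · refine hgoal ((a : ℤ) * N) (mul_le_mul_of_nonneg_right (by exact_mod_cast ha2)
          (by rw [hN]; positivity)) ?_
        nlinarith
  · -- `e ≤ (p - 1) / 2`
    have hZ : B.Z = B.X := by unfold Blk.Z; rw [if_neg he]
    have htY : B.Y.card = t := by
      have := B.card_Y
      rw [← ht] at this
      exact Nat.eq_of_mul_eq_mul_left (by omega) this
    have ht2 : 2 ≤ t := by
      rcases (show t = 0 ∨ t = 1 ∨ 2 ≤ t by omega) with e1 | e1 | e1
      · subst e1; simp at ht; omega
      · subst e1; exact absurd (by omega) he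
      · exact e1
    have he2' : 2 * e ≤ (p : ℤ) - 1 := by
      have h3 : 2 * eN P ≤ eN P * t := by nlinarith
      omega
    obtain ⟨y, hy⟩ := Finset.card_pos.1 (show 0 < B.Y.card by omega)
    have hdeg : ∀ x ∈ B.X, B.εX x = -1 → charDegree (x : G → ℂ) = p - 1 := fun x hx e1 =>
      ((h.degZ hn hnr B (B.X_subset hx)).2 (by rw [B.s_of_mem hx, e1])).resolve_right fun e2 =>
        he e2.1
    have hr := B.rel_one hy
    rw [sum_two_valued B.X B.s _ N (-((p : ℤ) - 1))
      (fun x hx e1 => by
        have := (h.degZ hn hnr B (B.X_subset hx)).1 e1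
        rw [B.s_of_mem hx] at e1
        rw [e1, one_mul, this]; push_cast; rw [hN])
      (fun x hx e1 => by
        have e1' := (B.sign (B.X_subset hx)).resolve_left e1
        rw [B.s_of_mem hx] at e1'
        rw [e1', hdeg x hx e1', Nat.cast_sub hp.out.one_le]; push_cast; ring)] at hr
    rw [← hZ, ← ha, ← hb] at hr
    have hX : (a : ℤ) + b + 1 = e := by
      have := B.card_X
      rw [← hZ] at this
      omega
    have hN0 : 0 < N := by rw [hN]; positivity
    have hdy : (0 : ℤ) < (charDegree (y : G → ℂ) : ℤ) := by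
      exact_mod_cast CfsgLib.Chars17.irrDegree_pos y
    have hdY := h.degY_dvd hn hnr B hy
    rcases Nat.eq_zero_or_pos a with ha0 | ha0
    · -- every character in `X` has degree `p - 1`
      rw [ha0] at hr hX
      push_cast at hr hX
      have hb' : (1 : ℤ) ≤ b := by exact_mod_cast hb1
      have hεm : B.ε = -1 := by
        refine B.hε.resolve_left fun e1 => ?_
        rw [e1] at hr
        nlinarith
      rw [hεm] at hr
      have hallX : ∀ x ∈ B.X, B.εX x = -1 := fun x hx => by
        refine (B.hεX x hx).resolve_left fun e1 => ?_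
        have : x ∈ B.Z.filter fun i => B.s i = 1 :=
          Finset.mem_filter.2 ⟨B.X_subset hx, by rw [B.s_of_mem hx, e1]⟩
        rw [Finset.card_eq_zero.1 (show (B.Z.filter fun i => B.s i = 1).card = 0 by omega)] at this
        exact Finset.notMem_empty x this
      have hχ₀X : χ₀ ∈ B.X := hZ ▸ hχ₀
      have he2eq : eN P = 2 := by
        by_cases hA : ∃ χ ∈ B.X, fsInd (χ : G → ℂ) ≠ -1
        · obtain ⟨χ, hχ, hfs⟩ := hA
          obtain ⟨m, hexp, hsing, hle, hm1⟩ := h.wedge hC B (B.X_subset hχ)
            (by rw [B.s_of_mem hχ, hallX χ hχ]) (hdeg χ hχ (hallX χ hχ))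
          have hm0 : m (principalIrr G) = 0 := by_contra fun e1 => hfs (hm1 e1)
          have hdec := h.decomp hC hn B (fun ψ => (m ψ : ℤ)) (fun z => by simpa using hexp z) 1 hsing
          rw [hm0, hεm, htY, Finset.sum_congr rfl fun x hx =>
            show B.εX x * (m x : ℤ) = -(m x : ℤ) by rw [hallX x hx]; ring,
            Finset.sum_neg_distrib] at hdec
          push_cast at hdec
          have hM : (t : ℤ) ≤ ∑ y ∈ B.Y, (m y : ℤ) := by
            have : (0 : ℤ) ≤ ∑ x ∈ B.X, (m x : ℤ) := Finset.sum_nonneg fun x _ => Int.natCast_nonneg _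
            nlinarith
          have h2 := hle B.Y
          rw [Finset.sum_congr rfl (g := fun z => (m z : ℤ) * (charDegree (y : G → ℂ) : ℤ))
            fun z hz => by
              have h3 := B.rel_one hz
              rw [← B.rel_one hy, hεm] at h3
              rw [show (charDegree (z : G → ℂ) : ℤ) = (charDegree (y : G → ℂ) : ℤ) by linarith],
            ← Finset.sum_mul] at h2
          have h4 : (t : ℤ) * (charDegree (y : G → ℂ) : ℤ) ≤
              (∑ z ∈ B.Y, (m z : ℤ)) * (charDegree (y : G → ℂ) : ℤ) :=
            mul_le_mul_of_nonneg_right hM hdy.le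
          have hpe : (p : ℤ) = e * t + 1 := by
            have : ((eN P * t : ℕ) : ℤ) = ((p - 1 : ℕ) : ℤ) := by rw [ht]
            rw [Nat.cast_sub hp.out.one_le] at this
            push_cast at this
            rw [hedef]
            linarith
          have hdyv : (charDegree (y : G → ℂ) : ℤ) = (e - 1) * (e * t) - 1 := by
            rw [show (b : ℤ) = e - 1 by linarith, hpe] at hr
            linarith
          rw [hdyv, hpe] at h2
          rw [hdyv] at h4
          have h5 : (t : ℤ) * (e * t * (e - 2) + (e - 2)) ≤ 0 := by nlinarith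
          have ht2' : (2 : ℤ) ≤ t := by exact_mod_cast ht2
          by_contra hne
          have he3 : (3 : ℤ) ≤ e := by omega
          have : (0 : ℤ) < (t : ℤ) * (e * t * (e - 2) + (e - 2)) := by
            refine mul_pos (by linarith) (add_pos (mul_pos (mul_pos ?_ ?_) ?_) ?_) <;> linarith
          linarith
        · simp only [not_exists, not_and, not_not] at hA
          have hdec := h.decomp hC hn B ν hνexp 1 fun z hz => h.sqrtCount_sing hC hz
          rw [hν0, hεm, htY, Finset.sum_congr rfl fun x hx => show B.εX x * ν x = 1 by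
            have h2 := hν x
            rw [hA x hx] at h2
            have : ν x = -1 := by exact_mod_cast h2.symm
            rw [hallX x hx, this]; norm_num, Finset.sum_const, nsmul_one] at hdec
          have hge : -(t : ℤ) ≤ ∑ y ∈ B.Y, ν y := by
            have h3 := Finset.card_nsmul_le_sum B.Y ν (-1) fun z _ => hν1 z
            rw [htY, nsmul_eq_mul, mul_neg, mul_one] at h3
            exact h3
          have hXc : (B.X.card : ℤ) = e - 1 := by
            have := B.card_X
            omega
          rw [hXc] at hdec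
          have ht2' : (2 : ℤ) ≤ t := by exact_mod_cast ht2
          by_contra hne
          have he3 : (3 : ℤ) ≤ e := by omega
          nlinarith
      -- `e = 2`
      have htp : p = 2 * t + 1 := by rw [he2eq] at ht; omega
      have hb1' : b = 1 := by omega
      rw [hb1', Nat.cast_one] at hr
      have hdy2 : charDegree (y : G → ℂ) = p - 2 := by omega
      rw [he2eq] at hdY
      have hd1 : t ∣ 1 + n * p := by
        obtain ⟨u, hu, hu1⟩ := h.exists_u
        have h3 := h.deg_dvd hn {χ₀} (p - 1) (by omega) (fun ψ hψ => by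
          rw [Finset.mem_singleton.1 hψ, hd₀]) hu hu1 (-1) (Or.inr rfl)
          (by rw [Finset.sum_singleton, B.value_u hχ₀ hu hu1, hs₀])
        rw [he2eq, show p - 1 = 2 * t by omega] at h3
        exact Nat.dvd_of_mul_dvd_mul_left (by norm_num) h3
      have hd2 : p - 2 ∣ 1 + n * p := by
        rw [hdy2] at hdY
        refine Nat.Coprime.dvd_of_dvd_mul_left ?_ hdY
        exact Nat.coprime_two_right.2 ⟨t - 1, by omega⟩
      have hcop : Nat.Coprime t (p - 2) := by
        apply Nat.coprime_of_dvd
        intro k hk h1 h2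
        have h3 : k ∣ (p - 2) + 1 := by
          rw [show p - 2 + 1 = 2 * t by omega]
          exact Dvd.dvd.mul_left h1 2
        exact hk.not_dvd_one ((Nat.dvd_add_right h2).1 h3)
      obtain ⟨q, hq⟩ := hcop.mul_dvd_of_dvd_of_dvd hd1 hd2
      obtain ⟨u, rfl⟩ : ∃ u, t = u + 1 := ⟨t - 1, by omega⟩
      have hprod : (u + 1) * (p - 2) = 1 + u * p := by
        rw [show p - 2 = 2 * u + 1 by omega, htp]; ring
      rw [hprod] at hq
      have hq0 : 1 ≤ q := by
        rcases Nat.eq_zero_or_pos q with e1 | e1
        · rw [e1, mul_zero] at hq; omega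
        · exact e1
      obtain ⟨k, hk⟩ : p ∣ q - 1 := by
        have h4 : 1 + n * p ≡ q [MOD p] := by
          rw [hq]
          have : 1 + u * p ≡ 1 [MOD p] := by
            rw [Nat.ModEq, Nat.add_mul_mod_self_right]
          simpa using this.mul_right q
        have h5 : 1 + n * p ≡ 1 [MOD p] := by rw [Nat.ModEq, Nat.add_mul_mod_self_right]
        exact (Nat.modEq_iff_dvd' hq0).1 (h5.symm.trans h4)
      rcases Nat.eq_zero_or_pos k with hk0 | hk0
      · rw [hk0, mul_zero] at hk
        rw [show q = 1 by omega, mul_one] at hq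
        have : n = u := Nat.eq_of_mul_eq_mul_right hp.out.pos (by omega)
        omega
      · refine absurd (rep_of_mul hp.out.pos (by omega : 0 < u) hk0 ?_) hnr
        rw [hq, show q = 1 + k * p by rw [mul_comm]; omega]
    · -- some character of degree `1 + n p`
      have ha' : N ≤ (a : ℤ) * N := le_mul_of_one_le_left hN0.le (by exact_mod_cast ha0)
      rcases B.hε with e1 | e1 <;> rw [e1] at hr
      · rw [one_mul] at hr
        have hmod : (p : ℤ) ∣ (charDegree (y : G → ℂ) : ℤ) - (eN P : ℤ) := by
          have := B.degY y hy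
          rwa [e1, one_mul] at this
        rcases deg_exceptional hp.out ⟨t, ht.symm⟩ (by omega) hnr hdY hmod
          (CfsgLib.Chars17.irrDegree_pos y) with e2 | e2
        · rw [e2] at hr
          refine hgoal (2 * ((a : ℤ) * N)) (by linarith) ?_
          have h3 : (b : ℤ) * ((p : ℤ) - 1) ≤ (e - 1) * ((p : ℤ) - 1) :=
            mul_le_mul_of_nonneg_right (by linarith [show (0 : ℤ) ≤ a from Int.natCast_nonneg a])
              (by linarith)
          nlinarith
        · exfalso
          rw [e2] at hr
          push_cast at hr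
          rw [← hN, ← hedef] at hr
          have h3 : ((a : ℤ) + 1) * N ≤ e * N :=
            mul_le_mul_of_nonneg_right (by linarith [show (0 : ℤ) ≤ b from Int.natCast_nonneg b])
              hN0.le
          have : (0 : ℤ) < (b : ℤ) * ((p : ℤ) - 1) :=
            mul_pos (by exact_mod_cast hb1) (by linarith)
          nlinarith
      · refine hgoal (2 * ((a : ℤ) * N)) (by linarith) ?_
        have h3 : (b : ℤ) * ((p : ℤ) - 1) ≤ e * ((p : ℤ) - 1) :=
          mul_le_mul_of_nonneg_right (by linarith [show (0 : ℤ) ≤ a from Int.natCast_nonneg a])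
            (by linarith)
        nlinarith

end CfsgLib.BrauerArtin
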