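import Cfsg.Agent.Lib.BrauerArtin.Main
import Cfsg.Agent.Lib.PSL2.Basic
import Cfsg.Agent.Lib.StrongEmbedding.PSLTwo

/-!
# Perfect groups of order less than `p ^ 3`
-/

set_option autoImplicit false
set_option linter.style.haveILetI false
set_option linter.unusedSectionVars false

noncomputable section

namespace CfsgLib.BrauerArtin

open Cfsg

universe u

variable {G : Type u} [Group G] [Finite G] {p : ℕ} [hp : Fact p.Prime]

theorem card_small (hK : Nat.card G < p ^ 3) {K : Subgroup G} [K.Normal] {m : ℕ}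
    (hm : Nat.card (G ⧸ K) = m) (hm3 : p ^ 3 ≤ 3 * m) : Nat.card K ≤ 2 := by
  by_contra h3
  have h1 := K.card_eq_card_quotient_mul_card_subgroup
  rw [hm] at h1
  have : m * 3 ≤ m * Nat.card K := Nat.mul_le_mul_left m (by omega)
  omega

/-- **Perfect groups with a large prime divisor of the order.** -/
theorem cube (hperf : commutator G = ⊤) (hdvd : p ∣ Nat.card G) (hbig : Nat.card G < p ^ 3)
    (P : Sylow p G) (hP : ¬ (P : Subgroup G).Normal)
    (h2 : ∀ N : Subgroup G, N.Normal → Nat.card N ≠ 2) :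
    (∃ (F : Type) (_ : Field F) (_ : Fintype F), Fintype.card F = p ∧ 3 < p ∧
      Nonempty (G ≃* Matrix.ProjectiveSpecialLinearGroup (Fin 2) F)) ∨
    (∃ (m : ℕ) (F : Type) (_ : Field F) (_ : Fintype F), Fintype.card F = 2 ^ m ∧ p = 2 ^ m + 1 ∧
      3 < p ∧ Nonempty (G ≃* Matrix.SpecialLinearGroup (Fin 2) F)) := by
  classical
  set N := Subgroup.normalizer ((P : Subgroup G) : Set G) with hNdef
  have hGN : Nat.card G = Nat.card N * Nat.card (Sylow p G) := by
    rw [P.card_eq_index_normalizer]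
    exact N.card_mul_index.symm
  have hpos : 1 ≤ Nat.card (Sylow p G) := Nat.card_pos
  obtain ⟨n, hn'⟩ := (Nat.modEq_iff_dvd' hpos).1 (card_sylow_modEq_one p G).symm
  have hn : Nat.card (Sylow p G) = 1 + n * p := by rw [mul_comm n]; omega
  have hn0 : 1 ≤ n := by
    by_contra hlt
    have h1 : Nat.card (Sylow p G) = 1 := by rw [hn, show n = 0 by omega]; simp
    haveI : Subsingleton (Sylow p G) := (Nat.card_eq_one_iff_unique.1 h1).1
    exact hP P.normal_of_subsingleton
  have hPN : Nat.card (P : Subgroup G) ∣ Nat.card N := Subgroup.card_dvd_of_le Subgroup.le_normalizer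
  have hNpos : 0 < Nat.card N := Nat.card_pos
  have hp0 := hp.out.pos
  have hcard : Nat.card P = p := by
    obtain ⟨a, ha⟩ := P.2.exists_card_eq
    rcases (show a = 0 ∨ a = 1 ∨ 2 ≤ a by omega) with e | e | e
    · rw [e, pow_zero, Subgroup.card_eq_one] at ha
      exact absurd ha (P.ne_bot_of_dvd_card hdvd)
    · rw [ha, e, pow_one]
    · exfalso
      have h1 : p ^ 2 ≤ Nat.card N :=
        le_trans (Nat.pow_le_pow_right hp0 e) (ha ▸ Nat.le_of_dvd hNpos hPN)
      have h3 : p ^ 2 * (1 + n * p) ≤ Nat.card G := by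
        rw [hGN, hn]; exact Nat.mul_le_mul_right _ h1
      have : p ^ 2 * p ≤ p ^ 2 * (1 + n * p) :=
        Nat.mul_le_mul_left _ (le_add_of_nonneg_of_le (Nat.zero_le 1) (Nat.le_mul_of_pos_left p hn0))
      have e3 : p ^ 3 = p ^ 2 * p := by ring
      omega
  have hN2 : 2 * p ≤ Nat.card N := by
    obtain ⟨k, hk⟩ := hPN
    rw [show Nat.card (P : Subgroup G) = p from hcard] at hk
    rcases (show k = 0 ∨ k = 1 ∨ 2 ≤ k by omega) with e | e | e
    · rw [e, mul_zero] at hk; omega
    · exfalso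
      rw [e, mul_one] at hk
      haveI : IsCyclic (P : Subgroup G) := isCyclic_of_prime_card hcard
      have hNP : N = (P : Subgroup G) := (Subgroup.eq_of_le_of_card_ge Subgroup.le_normalizer
        (by rw [hk]; exact hcard.ge)).symm
      have he : Subgroup.normalizer ((P : Subgroup G) : Set G) ≤
          Subgroup.centralizer ((P : Subgroup G) : Set G) := by
        intro a ha
        refine Subgroup.mem_centralizer_iff.2 fun y hy => ?_
        exact congrArg Subtype.val ((IsCyclic.isMulCommutative (α := (P : Subgroup G))).is_comm.comm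
          (⟨y, hy⟩ : (P : Subgroup G)) ⟨a, hNP.le ha⟩)
      have hker : commutator G ≤ (MonoidHom.transferSylow P he).ker := by
        rw [commutator_def, Subgroup.commutator_le]
        intro a _ b _
        rw [MonoidHom.mem_ker, map_commutatorElement, commutatorElement_eq_one_iff_mul_comm]
        exact (IsCyclic.isMulCommutative (α := (P : Subgroup G))).is_comm.comm _ _
      rw [hperf] at hker
      exact MonoidHom.not_dvd_card_ker_transferSylow P he
        (by rw [top_le_iff.1 hker, Subgroup.card_top]; exact hdvd)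
    · rw [hk, mul_comm 2 p]
      exact Nat.mul_le_mul_left p e
  set H := Cfsg.pPrimeCore p G with hH
  have key : Nat.card H ≤ 2 → Nonempty (G ≃* G ⧸ H) := fun hle => by
    have hne2 := h2 H inferInstance
    have hpos' : 0 < Nat.card H := Nat.card_pos
    have hbot : H = ⊥ := Subgroup.card_eq_one.1 (by omega)
    exact ⟨(QuotientGroup.quotientBot.symm).trans (QuotientGroup.quotientMulEquivOfEq hbot.symm)⟩
  rcases main hperf P hcard hn with ⟨F, iF, iT, hF, h3, ⟨e⟩⟩ | ⟨m, F, iF, iT, hF, hpm, h3, ⟨e⟩⟩ | hrep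
  · left
    refine ⟨F, iF, iT, hF, h3, ?_⟩
    have hc := CfsgLib.PSL2.card_psl (F := F)
    rw [hF, ← Nat.card_congr e.toEquiv] at hc
    have hg : Nat.gcd 2 (p - 1) ≤ 2 := Nat.le_of_dvd two_pos (Nat.gcd_dvd_left _ _)
    have hm3 : p ^ 3 ≤ 3 * Nat.card (G ⧸ H) := by
      obtain ⟨q, rfl⟩ : ∃ q, p = q + 1 := ⟨p - 1, by omega⟩
      rw [Nat.add_sub_cancel] at hc hg
      have h5 : (q + 1 + 1) * ((q + 1) * q) ≤ 2 * Nat.card (G ⧸ H) := by
        rw [← hc]; exact Nat.mul_le_mul_right _ hg
      have h6 : 9 ≤ q * q := Nat.mul_le_mul (show 3 ≤ q by omega) (show 3 ≤ q by omega)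
      have h7 : (q + 1) * 9 ≤ (q + 1) * (q * q) := Nat.mul_le_mul_left _ h6
      nlinarith
    obtain ⟨e'⟩ := key (card_small hbig rfl hm3)
    exact ⟨e'.trans e⟩
  · right
    refine ⟨m, F, iF, iT, hF, hpm, h3, ?_⟩
    haveI : DecidableEq F := Classical.decEq F
    have hc := CfsgLib.StrongEmbedding.PSLTwo.card_sl_two (F := F)
    rw [hF, ← Nat.card_congr e.toEquiv, ← hpm, show 2 ^ m = p - 1 by omega] at hc
    have hm3 : p ^ 3 ≤ 3 * Nat.card (G ⧸ H) := by
      obtain ⟨q, rfl⟩ : ∃ q, p = q + 4 := ⟨p - 4, by omega⟩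
      rw [hc, show q + 4 - 1 = q + 3 from rfl, show q + 3 - 1 = q + 2 from rfl]
      rcases Nat.eq_zero_or_pos q with e0 | e0
      · subst e0; exact absurd hp.out (by norm_num)
      · nlinarith
    obtain ⟨e'⟩ := key (card_small hbig rfl hm3)
    exact ⟨e'.trans e⟩
  · exfalso
    have hge := hrep.ge
    have h3 : 2 * p * (1 + n * p) ≤ Nat.card G := by
      rw [hGN, hn]; exact Nat.mul_le_mul_right _ hN2
    have h4 : p * p * (p + 3) ≤ p * p * (2 * n) := Nat.mul_le_mul_left _ hge
    nlinarith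

end CfsgLib.BrauerArtin
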