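import Cfsg.Agent.Lib.BrauerArtin.Arith
import Cfsg.Agent.Lib.CyclicDefect.Principal
import Cfsg.Agent.Lib.Blocks.WeakOrth
import Cfsg.Agent.Lib.Blocks.CentralChar
import Cfsg.Agent.Lib.Chars17.PGroupGalois
import Cfsg.Agent.S4441
import Mathlib.GroupTheory.Transfer

/-!
# Perfect groups with a Sylow subgroup of order `p` and trivial `p'`-core: the principal block
-/

set_option autoImplicit false
set_option linter.style.haveILetI false
set_option linter.unusedSectionVars false

noncomputable section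

namespace CfsgLib.BrauerArtin

open Cfsg CfsgLib.Characters
open scoped ComplexConjugate

universe u

variable {G : Type u} [Group G] [Fintype G] {p : ℕ} [hp : Fact p.Prime]

/-- The standing hypotheses. -/
structure Ctx (p : ℕ) {G : Type u} [Group G] (P : Sylow p G) : Prop where
  perfect : commutator G = ⊤
  cardP : Nat.card P = p
  minimal : ∀ K : Subgroup G, K.Normal → ¬ p ∣ Nat.card K → K = ⊥

/-- The centralizer of the Sylow subgroup. -/
abbrev cP (P : Sylow p G) : Subgroup G := Subgroup.centralizer ((P : Subgroup G) : Set G)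

/-- The index of the centralizer in the normalizer. -/
def eN (P : Sylow p G) : ℕ :=
  (cP P).relIndex (Subgroup.normalizer ((P : Subgroup G) : Set G))

variable {P : Sylow p G} (h : Ctx p P)
include h

theorem Ctx.orderOf_of_mem {x : G} (hx : x ∈ (P : Subgroup G)) (hx1 : x ≠ 1) : orderOf x = p := by
  have h1 := Subgroup.orderOf_dvd_natCard (P : Subgroup G) hx
  rw [show Nat.card (P : Subgroup G) = p from h.cardP] at h1
  exact ((Nat.dvd_prime hp.out).1 h1).resolve_left fun e => hx1 (orderOf_eq_one_iff.1 e)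

theorem Ctx.zpowers_eq {x : G} (hx : x ∈ (P : Subgroup G)) (hx1 : x ≠ 1) :
    Subgroup.zpowers x = (P : Subgroup G) := by
  refine Subgroup.eq_of_le_of_card_ge (Subgroup.zpowers_le.2 hx) ?_
  rw [Nat.card_zpowers, h.orderOf_of_mem hx hx1]
  exact h.cardP.le

theorem Ctx.centralizer_singleton {x : G} (hx : x ∈ (P : Subgroup G)) (hx1 : x ≠ 1) :
    Subgroup.centralizer ({x} : Set G) = cP P := by
  rw [cP, ← h.zpowers_eq hx hx1, Subgroup.zpowers_eq_closure, Subgroup.centralizer_closure]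

theorem Ctx.P_le_cP : (P : Subgroup G) ≤ cP P := by
  intro z hz
  refine Subgroup.mem_centralizer_iff.2 fun y hy => ?_
  haveI : IsCyclic (P : Subgroup G) := isCyclic_of_prime_card h.cardP
  exact congrArg Subtype.val ((IsCyclic.isMulCommutative (α := (P : Subgroup G))).is_comm.comm
    (⟨y, hy⟩ : (P : Subgroup G)) ⟨z, hz⟩)

theorem Ctx.exists_u : ∃ x : G, x ∈ (P : Subgroup G) ∧ x ≠ 1 := by
  obtain ⟨x, hx⟩ := exists_prime_orderOf_dvd_card' (G := (P : Subgroup G)) p (by rw [h.cardP])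
  refine ⟨x, x.2, fun e => hp.out.ne_one ?_⟩
  rw [← hx, show x = 1 from Subtype.ext e, orderOf_one]

theorem Ctx.two_le_eN : 2 ≤ eN P := by
  by_contra hlt
  have h0 : eN P ≠ 0 := Subgroup.index_ne_zero_of_finite
  have he : Subgroup.normalizer ((P : Subgroup G) : Set G) ≤ cP P :=
    Subgroup.relIndex_eq_one.1 (show eN P = 1 by omega)
  set T := (MonoidHom.transferSylow P he).ker with hT
  have hK := MonoidHom.ker_transferSylow_isComplement' P he
  have hTbot : T = ⊥ := h.minimal T inferInstance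
    (hT ▸ MonoidHom.not_dvd_card_ker_transferSylow P he)
  have hcard := hK.card_mul_card
  rw [← hT, hTbot, Subgroup.card_bot, one_mul, show Nat.card (P : Subgroup G) = p from h.cardP]
    at hcard
  haveI : IsCyclic G := isCyclic_of_prime_card hcard.symm
  letI : CommGroup G := IsCyclic.commGroup
  obtain ⟨x, hxP, hx1⟩ := h.exists_u
  have hbot : commutator G = ⊥ := (commutator_eq_bot_iff_center_eq_top G).2
    (Subgroup.eq_top_iff' _ |>.2 fun a => Subgroup.mem_center_iff.2 fun b => mul_comm b a)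
  have : x ∈ (⊥ : Subgroup G) := by rw [← hbot, h.perfect]; exact Subgroup.mem_top x
  exact hx1 (Subgroup.mem_bot.1 this)

theorem Ctx.eN_mul : ∃ t, eN P * t = p - 1 := by
  obtain ⟨L, hL⟩ := CfsgLib.CyclicDefect.exists_loc P h.cardP
  subst hL
  letI := Fintype.ofFinite L.C
  letI := Fintype.ofFinite L.O
  letI := Fintype.ofFinite L.Dual
  exact ⟨_, L.eIdx_principal ▸ L.eIdx_mul_card (principalIrr L.O)⟩

theorem Ctx.odd : p ≠ 2 := by
  intro e
  obtain ⟨t, ht⟩ := h.eN_mul
  have := h.two_le_eN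
  subst e
  rcases Nat.eq_zero_or_pos t with rfl | ht0
  · simp at ht
  · have : eN P ≤ eN P * t := Nat.le_mul_of_pos_right _ ht0
    omega

theorem Ctx.index_cP {n : ℕ} (hn : Nat.card (Sylow p G) = 1 + n * p) :
    (cP P).index = eN P * (1 + n * p) := by
  rw [← hn, P.card_eq_index_normalizer, eN]
  exact (Subgroup.relIndex_mul_index (Subgroup.centralizer_le_normalizer _ : cP P ≤ _)).symm

theorem Ctx.eq_principal {χ : IrrCharacter G} (hd : charDegree (χ : G → ℂ) = 1) :
    χ = principalIrr G := by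
  have h1 := (CfsgLib.Chars17.PGalois.charDegree_eq_one_iff χ).1 hd
  rw [h.perfect] at h1
  refine Subtype.ext (funext fun g => ?_)
  have h2 := CfsgLib.Chars17.mem_irrKer.1 (h1 (Subgroup.mem_top g))
  rw [h2, ← CfsgLib.Chars17.cast_irrDegree, hd, Nat.cast_one]
  rfl

omit h in
/-- The principal block. -/
structure Blk (p : ℕ) {G : Type u} [Group G] [Fintype G] (P : Sylow p G) where
  X : Finset (IrrCharacter G)
  Y : Finset (IrrCharacter G)
  εX : IrrCharacter G → ℤ
  ε : ℤ
  hεX : ∀ x ∈ X, εX x = 1 ∨ εX x = -1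
  hε : ε = 1 ∨ ε = -1
  one_X : principalIrr G ∉ X
  one_Y : principalIrr G ∉ Y
  disj : Disjoint X Y
  card_X : X.card + 1 = eN P
  card_Y : eN P * Y.card = p - 1
  degX : ∀ x ∈ X, (p : ℤ) ∣ (charDegree (x : G → ℂ) : ℤ) - εX x
  degY : ∀ y ∈ Y, (p : ℤ) ∣ (charDegree (y : G → ℂ) : ℤ) - ε * (eN P : ℤ)
  value : ∀ x ∈ X, ∀ u ∈ (P : Subgroup G), u ≠ 1 → ∀ z ∈ cP P, ¬ p ∣ orderOf z →
    (x : G → ℂ) (u * z) = (εX x : ℂ)
  rel : ∀ y ∈ Y, ∀ g : G, ¬ p ∣ orderOf g →
    (ε : ℂ) * (y : G → ℂ) g = 1 + ∑ x ∈ X, (εX x : ℂ) * (x : G → ℂ) g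
  sumY : ∀ u ∈ (P : Subgroup G), u ≠ 1 → ∀ z ∈ cP P, ¬ p ∣ orderOf z →
    ∑ y ∈ Y, (y : G → ℂ) (u * z) = -(ε : ℂ)
  vanish : ∀ ψ : IrrCharacter G, ψ ≠ principalIrr G → ψ ∉ X → ψ ∉ Y →
    cP P = (P : Subgroup G) → ∀ u ∈ (P : Subgroup G), u ≠ 1 → (ψ : G → ℂ) u = 0

theorem Ctx.vanish {M : Ideal AlgInt} (hM : IsPModular p M) (χ : IrrCharacter G)
    (hmem : χ ∉ principalBlock M G) (hC : cP P = (P : Subgroup G)) {x : G}
    (hx : x ∈ (P : Subgroup G)) (hx1 : x ≠ 1) : (χ : G → ℂ) x = 0 := by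
  classical
  obtain ⟨L, hL⟩ := CfsgLib.CyclicDefect.exists_loc P h.cardP
  subst hL
  letI := Fintype.ofFinite L.C
  letI := Fintype.ofFinite L.O
  letI := Fintype.ofFinite L.Dual
  rw [← L.indB_principal hM] at hmem
  have hO : ∀ y : L.O, y = 1 := by
    intro y
    obtain ⟨h1, h2⟩ := L.mem_O.1 y.2
    refine Subtype.ext ?_
    by_contra hy
    exact h2 (dvd_of_eq (h.orderOf_of_mem (hC.le h1) hy).symm)
  haveI : Subsingleton L.O := ⟨fun a b => by rw [hO a, hO b]⟩
  rw [← L.zpowers] at hx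
  obtain ⟨j, hj⟩ := mem_powers_iff_mem_zpowers.2 hx
  have hj : L.x ^ j = x := hj
  have hjx : L.x ^ (j % p) = x := by
    rw [← hj]
    conv_rhs => rw [← Nat.div_add_mod j p, pow_add, pow_mul, L.x_pow_p, one_pow, one_mul]
  have hj0 : 0 < j % p := Nat.pos_of_ne_zero fun e => hx1 (by rw [← hjx, e, pow_zero])
  have key := L.proj (irr_isClassFunction χ) (j % p) (principalIrr L.O)
  rw [Fintype.sum_subsingleton _ (1 : L.O)] at key
  have hconst : ∀ lam : L.Dual, L.coef (χ : G → ℂ) lam (principalIrr L.O) =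
      L.coef (χ : G → ℂ) 1 (principalIrr L.O) := fun lam => L.coef_const hM hmem lam 1
  have hsum := L.sum_dual_pow_eq_zero hj0 (Nat.mod_lt j hp.out.pos)
  simp only [hconst, ← Finset.mul_sum, OneMemClass.coe_one, mul_one] at key
  rw [hsum, mul_zero, mul_zero] at key
  rw [show (principalIrr L.O : L.O → ℂ) 1 = 1 from rfl, map_one, one_mul, hjx] at key
  exact key

theorem Ctx.exists_blk : Nonempty (Blk p P) := by
  classical
  obtain ⟨M, hM⟩ := CfsgLib.KGV.exists_isPModular p hp.out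
  have h2 := h.two_le_eN
  have hodd := h.odd
  obtain ⟨X, Y, hB, hdisj, hXc, hYc, εX, ε, hX, hε, hYdeg, hYreg, hrel⟩ :=
    Cfsg.Agent.S4441.result p M hM hodd P h.cardP (eN P) rfl
  obtain ⟨t, ht⟩ := h.eN_mul
  have hYc' : Nat.card Y = t := by
    rw [hYc, ← ht, Nat.mul_div_cancel_left _ (by omega)]
  obtain ⟨u₀, hu₀, hu₀'⟩ := h.exists_u
  have h1C : (1 : G) ∈ cP P := one_mem _
  have h1r : ¬ p ∣ orderOf (1 : G) := by rw [orderOf_one]; exact hp.out.not_dvd_one
  have h1B : principalIrr G ∈ principalBlock M G := CfsgLib.Blocks.principalIrr_mem hM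
  -- the principal character among the nonexceptional ones
  have ht0 : 0 < t := by
    rcases Nat.eq_zero_or_pos t with rfl | ht0
    · have := hp.out.two_le
      simp at ht
      omega
    · exact ht0
  obtain ⟨X', Y', εX', ε', hB', hdisj', h1X', hXc', hYc'', hX', hε', hYdeg', hrel'⟩ :
      ∃ (X' Y' : Finset (IrrCharacter G)) (εX' : IrrCharacter G → ℤ) (ε' : ℤ),
        (∀ χ, χ ∈ principalBlock M G ↔ χ ∈ X' ∨ χ ∈ Y') ∧ Disjoint X' Y' ∧
        principalIrr G ∈ X' ∧ X'.card = eN P ∧ Y'.card = t ∧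
        (∀ χ ∈ X', (εX' χ = 1 ∨ εX' χ = -1) ∧
          (p : ℤ) ∣ (charDegree (χ : G → ℂ) : ℤ) - εX' χ ∧
          ∀ u ∈ (P : Subgroup G), u ≠ 1 → ∀ z ∈ cP P, ¬ p ∣ orderOf z →
            (χ : G → ℂ) (u * z) = (εX' χ : ℂ)) ∧
        (ε' = 1 ∨ ε' = -1) ∧
        (∀ y ∈ Y', (p : ℤ) ∣ (charDegree (y : G → ℂ) : ℤ) - ε' * (eN P : ℤ)) ∧
        ∀ y ∈ Y', ∀ g : G, ¬ p ∣ orderOf g →
          (ε' : ℂ) * (y : G → ℂ) g = ∑ x ∈ X', (εX' x : ℂ) * (x : G → ℂ) g := by
    by_cases h1X : principalIrr G ∈ X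
    · refine ⟨(Set.toFinite X).toFinset, (Set.toFinite Y).toFinset, εX, ε, fun χ => ?_, ?_, ?_, ?_,
        ?_, fun χ hχ => ?_, hε, fun y hy => ?_, fun y hy g hg => ?_⟩
      · rw [Set.Finite.mem_toFinset, Set.Finite.mem_toFinset, hB, Set.mem_union]
      · rw [Finset.disjoint_left]
        intro χ h1 h2'
        rw [Set.Finite.mem_toFinset] at h1 h2'
        exact Set.disjoint_left.1 hdisj h1 h2'
      · rwa [Set.Finite.mem_toFinset]
      · rw [← Set.ncard_eq_toFinset_card, ← Nat.card_coe_set_eq, hXc]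
      · rw [← Set.ncard_eq_toFinset_card, ← Nat.card_coe_set_eq, hYc']
      · rw [Set.Finite.mem_toFinset] at hχ
        exact ⟨(hX χ hχ).1, Int.modEq_iff_dvd.1 (hX χ hχ).2.1.symm,
          fun u hu hu1 z hz hzr => (hX χ hχ).2.2 u hu hu1 z hz hzr⟩
      · rw [Set.Finite.mem_toFinset] at hy
        exact Int.modEq_iff_dvd.1 (hYdeg y hy).symm
      · rw [Set.Finite.mem_toFinset] at hy
        rw [hrel y hy g hg, finsum_mem_eq_finite_toFinset_sum _ (Set.toFinite X)]
    · -- otherwise `1` is the only exceptional character and `e = p - 1`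
      have h1Y : principalIrr G ∈ Y := (hB ▸ h1B : principalIrr G ∈ X ∪ Y).resolve_left h1X
      have hd1 : (charDegree (principalIrr G : G → ℂ) : ℤ) = 1 := by
        simp [charDegree, principalIrr]
      have hk := Int.modEq_iff_dvd.1 (hYdeg _ h1Y).symm
      rw [hd1] at hk
      have hle : eN P ≤ p - 1 := by rw [← ht]; exact Nat.le_mul_of_pos_right _ ht0
      have hεe : ε = -1 ∧ eN P = p - 1 := by
        rcases hε with e | e <;> rw [e] at hk
        · obtain ⟨k, hk⟩ := hk
          exfalso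
          have hk' : (p : ℤ) ∣ (eN P : ℤ) - 1 := ⟨-k, by linarith⟩
          have := Int.le_of_dvd (by omega) hk'
          omega
        · refine ⟨e, ?_⟩
          have hk' : (p : ℤ) ∣ (eN P : ℤ) + 1 := by
            obtain ⟨k, hk⟩ := hk
            exact ⟨k, by linarith⟩
          have := Int.le_of_dvd (by omega) hk'
          omega
      obtain ⟨hεm, hem⟩ := hεe
      have ht1 : t = 1 := by
        have : eN P * t = eN P * 1 := by rw [ht, hem, mul_one]
        exact Nat.eq_of_mul_eq_mul_left (by omega) this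
      rw [ht1, Nat.card_coe_set_eq, Set.ncard_eq_one] at hYc'
      obtain ⟨y₀, hy₀⟩ := hYc'
      have hy1 : y₀ = principalIrr G := by
        rw [hy₀] at h1Y
        exact (Set.mem_singleton_iff.1 h1Y).symm
      subst hy1
      set Xf := (Set.toFinite X).toFinset with hXf
      have hmemX : ∀ χ, χ ∈ Xf ↔ χ ∈ X := fun χ => Set.Finite.mem_toFinset _
      have hXcard : Xf.card = eN P := by
        rw [hXf, ← Set.ncard_eq_toFinset_card, ← Nat.card_coe_set_eq, hXc]
      obtain ⟨x₁, hx₁⟩ := Finset.card_pos.1 (show 0 < Xf.card by omega)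
      set εX' : IrrCharacter G → ℤ := fun χ => if χ = principalIrr G then 1 else εX χ with hεX'
      have h1Xf : principalIrr G ∉ Xf := by rwa [hmemX]
      have hεX'' : ∀ χ ∈ Xf, εX' χ = εX χ := fun χ hχ =>
        if_neg (by rintro rfl; exact h1Xf hχ)
      refine ⟨insert (principalIrr G) (Xf.erase x₁), {x₁}, εX', -εX x₁, fun χ => ?_, ?_,
        Finset.mem_insert_self _ _, ?_, by rw [ht1, Finset.card_singleton], fun χ hχ => ?_, ?_,
        fun y hy => ?_, fun y hy g hg => ?_⟩
      · rw [hB, Set.mem_union, hy₀, Set.mem_singleton_iff, Finset.mem_insert, Finset.mem_erase,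
          Finset.mem_singleton, hmemX]
        constructor
        · rintro (e | e)
          · by_cases e1 : χ = x₁
            · exact Or.inr e1
            · exact Or.inl (Or.inr ⟨e1, e⟩)
          · exact Or.inl (Or.inl e)
        · rintro ((e | ⟨-, e⟩) | e)
          · exact Or.inr e
          · exact Or.inl e
          · exact Or.inl (e ▸ (hmemX _).1 hx₁)
      · rw [Finset.disjoint_singleton_right, Finset.mem_insert, not_or]
        exact ⟨fun e => h1Xf (e ▸ hx₁), Finset.notMem_erase _ _⟩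
      · rw [Finset.card_insert_of_notMem fun e => h1Xf (Finset.mem_of_mem_erase e),
          Finset.card_erase_of_mem hx₁, hXcard]
        omega
      · rcases Finset.mem_insert.1 hχ with e | e
        · subst e
          refine ⟨Or.inl (if_pos rfl), ?_, fun u _ _ z _ _ => ?_⟩
          · simp only [hεX', if_pos]
            rw [hd1, sub_self]
            exact dvd_zero _
          · simp only [hεX', if_pos, principalIrr_apply, Int.cast_one]
        · have he := Finset.mem_of_mem_erase e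
          rw [hεX'' χ he]
          exact ⟨(hX χ ((hmemX χ).1 he)).1, Int.modEq_iff_dvd.1 (hX χ ((hmemX χ).1 he)).2.1.symm,
            fun u hu hu1 z hz hzr => (hX χ ((hmemX χ).1 he)).2.2 u hu hu1 z hz hzr⟩
      · rcases (hX x₁ ((hmemX _).1 hx₁)).1 with e | e <;> rw [e]
        · exact Or.inr rfl
        · exact Or.inl rfl
      · rw [Finset.mem_singleton.1 hy]
        obtain ⟨k, hk1⟩ := Int.modEq_iff_dvd.1 (hX x₁ ((hmemX _).1 hx₁)).2.1.symm
        refine ⟨k + εX x₁, ?_⟩
        rw [hem, Nat.cast_sub hp.out.one_le, Nat.cast_one]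
        linear_combination hk1
      · rw [Finset.mem_singleton.1 hy]
        have e := hrel (principalIrr G) (hy₀ ▸ Set.mem_singleton _) g hg
        rw [finsum_mem_eq_finite_toFinset_sum _ (Set.toFinite X), ← hXf,
          ← Finset.add_sum_erase _ _ hx₁, hεm] at e
        rw [Finset.sum_insert fun e => h1Xf (Finset.mem_of_mem_erase e)]
        rw [Finset.sum_congr rfl (s₁ := Xf.erase x₁) fun χ hχ => by
          rw [hεX'' χ (Finset.mem_of_mem_erase hχ)]]
        simp only [hεX', if_pos, principalIrr_apply, Int.cast_one, Int.cast_neg, mul_one] at e ⊢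
        linear_combination e
  have hone : (εX' (principalIrr G) : ℂ) = 1 := by
    rw [← (hX' _ h1X').2.2 u₀ hu₀ hu₀' 1 h1C h1r]
    rfl
  have hmemB : ∀ χ, χ ∈ principalBlock M G ↔
      χ = principalIrr G ∨ χ ∈ X'.erase (principalIrr G) ∨ χ ∈ Y' := fun χ => by
    rw [hB', Finset.mem_erase]
    constructor
    · rintro (e | e)
      · by_cases e1 : χ = principalIrr G
        · exact Or.inl e1
        · exact Or.inr (Or.inl ⟨e1, e⟩)
      · exact Or.inr (Or.inr e)
    · rintro (e | ⟨-, e⟩ | e)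
      · exact Or.inl (e ▸ h1X')
      · exact Or.inl e
      · exact Or.inr e
  have h1Y' : principalIrr G ∉ Y' := Finset.disjoint_left.1 hdisj' h1X'
  have hrel'' : ∀ y ∈ Y', ∀ g : G, ¬ p ∣ orderOf g → (ε' : ℂ) * (y : G → ℂ) g =
      1 + ∑ x ∈ X'.erase (principalIrr G), (εX' x : ℂ) * (x : G → ℂ) g := fun y hy g hg => by
    rw [hrel' y hy g hg, ← Finset.add_sum_erase _ _ h1X', hone]
    simp
  refine ⟨⟨X'.erase (principalIrr G), Y', εX', ε', fun x hx => (hX' x (Finset.mem_of_mem_erase hx)).1,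
    hε', Finset.notMem_erase _ _, h1Y', hdisj'.mono_left (Finset.erase_subset _ _), ?_,
    by rw [hYc'', ht], fun x hx => (hX' x (Finset.mem_of_mem_erase hx)).2.1, hYdeg',
    fun x hx => (hX' x (Finset.mem_of_mem_erase hx)).2.2, hrel'', fun u hu hu1 z hz hzr => ?_,
    fun ψ h1 h2' h3 hC u hu hu1 => h.vanish hM ψ (fun hmem => ?_) hC hu hu1⟩⟩
  · rw [Finset.card_erase_of_mem h1X', hXc']
    omega
  · have hcomm : Commute u z := Subgroup.mem_centralizer_iff.1 hz u hu
    have hup : p ∣ orderOf (u * z) := by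
      have hcop : Nat.Coprime (orderOf u) (orderOf z) := by
        rw [h.orderOf_of_mem hu hu1]
        exact hp.out.coprime_iff_not_dvd.2 hzr
      rw [hcomm.orderOf_mul_eq_mul_orderOf_of_coprime hcop, h.orderOf_of_mem hu hu1]
      exact dvd_mul_right p _
    have e := CfsgLib.Blocks.weak_orth hM (CfsgLib.Blocks.isPBlock_principalBlock M) h1r hup
    have hset : Finset.univ.filter (fun χ => χ ∈ principalBlock M G) =
        insert (principalIrr G) (X'.erase (principalIrr G) ∪ Y') := by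
      ext χ
      rw [Finset.mem_filter, hmemB, Finset.mem_insert, Finset.mem_union]
      exact ⟨fun e => e.2, fun e => ⟨Finset.mem_univ _, e⟩⟩
    rw [hset, Finset.sum_insert (by
        rw [Finset.mem_union, not_or]; exact ⟨Finset.notMem_erase _ _, h1Y'⟩),
      Finset.sum_union (hdisj'.mono_left (Finset.erase_subset _ _)),
      Finset.sum_congr rfl (s₁ := X'.erase (principalIrr G)) fun x hx =>
        show (x : G → ℂ) 1 * conj ((x : G → ℂ) (u * z)) = (εX' x : ℂ) * (x : G → ℂ) 1 by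
          rw [show (x : G → ℂ) (u * z) = (εX' x : ℂ) from
            (hX' x (Finset.mem_of_mem_erase hx)).2.2 u hu hu1 z hz hzr,
            map_intCast, mul_comm]] at e
    obtain ⟨y₀, hy₀⟩ := Finset.card_pos.1 (show 0 < Y'.card by omega)
    have hy1 := irr_one_ne_zero y₀
    have hrel1 := hrel'' y₀ hy₀ 1 h1r
    have hεne : (ε' : ℂ) * (ε' : ℂ) = 1 := by rcases hε' with e | e <;> rw [e] <;> simp
    rw [Finset.sum_congr rfl (s₁ := Y') fun y hy =>
      show (y : G → ℂ) 1 * conj ((y : G → ℂ) (u * z)) = (y₀ : G → ℂ) 1 * conj ((y : G → ℂ) (u * z)) by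
        congr 1
        have e1 := hrel'' y hy 1 h1r
        rw [← hrel1] at e1
        exact mul_left_cancel₀ (fun e0 => by rw [e0, zero_mul] at hεne; exact zero_ne_one hεne) e1,
      ← Finset.mul_sum, ← map_sum, principalIrr_apply, principalIrr_apply, map_one, one_mul] at e
    have e2 : (y₀ : G → ℂ) 1 * (conj (∑ y ∈ Y', (y : G → ℂ) (u * z)) + (ε' : ℂ)) = 0 := by
      linear_combination e + hrel1
    have e3 := (mul_eq_zero.1 e2).resolve_left hy1
    have e4 := congrArg conj e3
    rw [map_add, Complex.conj_conj, map_intCast, map_zero] at e4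
    linear_combination e4
  · rcases (hmemB ψ).1 hmem with e | e | e
    · exact h1 e
    · exact h2' e
    · exact h3 e

end CfsgLib.BrauerArtin
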