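import Cfsg.Agent.Lib.BrauerArtin.Data
import Cfsg.Agent.Lib.Characters.Values
import Cfsg.Agent.Lib.Characters.Galois

/-!
# The degrees in the principal block
-/

set_option autoImplicit false
set_option linter.style.haveILetI false
set_option linter.unusedSectionVars false

noncomputable section

namespace CfsgLib.BrauerArtin

open Cfsg CfsgLib.Characters
open scoped ComplexConjugate

universe u

variable {G : Type u} [Group G] [Fintype G] {p : ℕ} [hp : Fact p.Prime] {P : Sylow p G}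

open Classical in
/-- The characters with constant values on the singular elements: all of `X`, and `Y` too when
`e = p - 1`. -/
def Blk.Z (B : Blk p P) : Finset (IrrCharacter G) :=
  if eN P = p - 1 then B.X ∪ B.Y else B.X

open Classical in
/-- Their signs. -/
def Blk.s (B : Blk p P) (χ : IrrCharacter G) : ℤ := if χ ∈ B.X then B.εX χ else -B.ε

theorem Blk.s_of_mem (B : Blk p P) {χ : IrrCharacter G} (h : χ ∈ B.X) : B.s χ = B.εX χ := if_pos h

theorem Blk.s_of_Y (B : Blk p P) {χ : IrrCharacter G} (h : χ ∈ B.Y) : B.s χ = -B.ε :=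
  if_neg fun hX => Finset.disjoint_left.1 B.disj hX h

theorem Blk.X_subset (B : Blk p P) : B.X ⊆ B.Z := by
  classical
  unfold Blk.Z
  split_ifs
  · exact Finset.subset_union_left
  · exact subset_rfl

theorem Blk.card_Y_eq_one (B : Blk p P) (he : eN P = p - 1) : B.Y.card = 1 := by
  have h1 := B.card_Y
  rw [he] at h1
  have := hp.out.two_le
  exact (mul_eq_left₀ (by omega)).1 h1

theorem Blk.sign (B : Blk p P) {χ : IrrCharacter G} (_hχ : χ ∈ B.Z) : B.s χ = 1 ∨ B.s χ = -1 := by
  classical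
  by_cases h : χ ∈ B.X
  · rw [B.s_of_mem h]; exact B.hεX χ h
  · rw [Blk.s, if_neg h]
    rcases B.hε with e | e <;> rw [e]
    · exact Or.inr rfl
    · exact Or.inl rfl

theorem Blk.ne_one (B : Blk p P) {χ : IrrCharacter G} (hχ : χ ∈ B.Z) : χ ≠ principalIrr G := by
  classical
  rintro rfl
  unfold Blk.Z at hχ
  split_ifs at hχ
  · exact (Finset.mem_union.1 hχ).elim B.one_X B.one_Y
  · exact B.one_X hχ

theorem Blk.mem_Z (B : Blk p P) {χ : IrrCharacter G} (hχ : χ ∈ B.Z) :
    χ ∈ B.X ∨ (eN P = p - 1 ∧ B.Y = {χ}) := by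
  classical
  by_cases h : χ ∈ B.X
  · exact Or.inl h
  · right
    unfold Blk.Z at hχ
    split_ifs at hχ with he
    · obtain ⟨y, hy⟩ := Finset.card_eq_one.1 (B.card_Y_eq_one he)
      have h1 := (Finset.mem_union.1 hχ).resolve_left h
      rw [hy, Finset.mem_singleton] at h1
      exact ⟨he, h1 ▸ hy⟩
    · exact absurd hχ h

theorem Blk.deg_s (B : Blk p P) {χ : IrrCharacter G} (hχ : χ ∈ B.Z) :
    (p : ℤ) ∣ (charDegree (χ : G → ℂ) : ℤ) - B.s χ := by
  rcases B.mem_Z hχ with h | ⟨he, hY⟩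
  · rw [B.s_of_mem h]; exact B.degX χ h
  · have hy : χ ∈ B.Y := by rw [hY]; exact Finset.mem_singleton_self χ
    rw [B.s_of_Y hy]
    obtain ⟨k, hk⟩ := B.degY χ hy
    refine ⟨k + B.ε, ?_⟩
    rw [he, Nat.cast_sub hp.out.one_le, Nat.cast_one] at hk
    linear_combination hk

theorem Blk.value_s (B : Blk p P) {χ : IrrCharacter G} (hχ : χ ∈ B.Z) {u : G}
    (hu : u ∈ (P : Subgroup G)) (hu1 : u ≠ 1) {z : G} (hz : z ∈ cP P) (hzr : ¬ p ∣ orderOf z) :
    (χ : G → ℂ) (u * z) = (B.s χ : ℂ) := by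
  rcases B.mem_Z hχ with h | ⟨he, hY⟩
  · rw [B.s_of_mem h]; exact B.value χ h u hu hu1 z hz hzr
  · rw [B.s_of_Y (by rw [hY]; exact Finset.mem_singleton_self χ), Int.cast_neg]
    have := B.sumY u hu hu1 z hz hzr
    rwa [hY, Finset.sum_singleton] at this

theorem Blk.value_u (B : Blk p P) {χ : IrrCharacter G} (hχ : χ ∈ B.Z) {u : G}
    (hu : u ∈ (P : Subgroup G)) (hu1 : u ≠ 1) : (χ : G → ℂ) u = (B.s χ : ℂ) := by
  have := B.value_s hχ hu hu1 (z := 1) (one_mem _)
    (by rw [orderOf_one]; exact hp.out.not_dvd_one)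
  rwa [mul_one] at this

/-- The relation at the identity. -/
theorem Blk.rel_one (B : Blk p P) {y : IrrCharacter G} (hy : y ∈ B.Y) :
    B.ε * (charDegree (y : G → ℂ) : ℤ) = 1 + ∑ x ∈ B.X, B.εX x * (charDegree (x : G → ℂ) : ℤ) := by
  have h := B.rel y hy 1 (by rw [orderOf_one]; exact hp.out.not_dvd_one)
  simp only [← CfsgLib.Chars17.cast_irrDegree] at h
  exact_mod_cast h

/-- The relation when `e = p - 1`. -/
theorem Blk.rel_Z (B : Blk p P) (he : eN P = p - 1) {g : G} (hg : ¬ p ∣ orderOf g) :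
    1 + ∑ z ∈ B.Z, (B.s z : ℂ) * (z : G → ℂ) g = 0 := by
  classical
  obtain ⟨y, hy⟩ := Finset.card_eq_one.1 (B.card_Y_eq_one he)
  have hyY : y ∈ B.Y := by rw [hy]; exact Finset.mem_singleton_self y
  have h := B.rel y hyY g hg
  unfold Blk.Z
  rw [if_pos he, Finset.sum_union B.disj, hy, Finset.sum_singleton, B.s_of_Y hyY,
    Finset.sum_congr rfl fun x hx => by rw [B.s_of_mem hx]]
  push_cast
  linear_combination -h

theorem Blk.card_Z (B : Blk p P) (he : eN P = p - 1) : B.Z.card = p - 1 := by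
  classical
  unfold Blk.Z
  rw [if_pos he, Finset.card_union_of_disjoint B.disj, B.card_Y_eq_one he, B.card_X, he]

variable (h : Ctx p P) {n : ℕ} (hn : Nat.card (Sylow p G) = 1 + n * p)
include h hn

/-- Degrees divide the class size of an element of order `p`. -/
theorem Ctx.deg_dvd (S : Finset (IrrCharacter G)) (D : ℕ) (hD : 0 < D)
    (hS : ∀ χ ∈ S, charDegree (χ : G → ℂ) = D) {u : G} (hu : u ∈ (P : Subgroup G)) (hu1 : u ≠ 1)
    (c : ℤ) (hc : c = 1 ∨ c = -1) (hsum : ∑ χ ∈ S, (χ : G → ℂ) u = (c : ℂ)) :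
    D ∣ eN P * (1 + n * p) := by
  have hcl : Nat.card {x : G // IsConj u x} = eN P * (1 + n * p) := by
    rw [card_isConj_eq_index, h.centralizer_singleton hu hu1, h.index_cP hn]
  have hint : IsIntegral ℤ (∑ χ ∈ S,
      (Nat.card {x : G // IsConj u x} : ℂ) * (χ : G → ℂ) u / (D : ℂ)) := by
    refine IsIntegral.sum _ fun χ hχ => ?_
    obtain ⟨χ, m, ρ, hρ, rfl⟩ := χ
    haveI := hρ
    have hd : ((Module.finrank ℂ (Fin m → ℂ) : ℕ) : ℂ) = (D : ℂ) := by
      rw [← Representation.char_one ρ, ← hS _ hχ, CfsgLib.Chars17.cast_irrDegree]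
    rw [← hd]
    exact isIntegral_class_mul_char_div ρ u
  rw [← Finset.sum_div, ← Finset.mul_sum, hsum, hcl] at hint
  refine nat_dvd_of_isIntegral_div hD.ne' ?_
  rcases hc with e | e <;> rw [e] at hint <;> push_cast at hint
  · simpa using hint
  · have := hint.neg
    simpa [neg_div] using this

theorem Ctx.n_pos : 0 < n := by
  rcases Nat.eq_zero_or_pos n with rfl | h0
  · exfalso
    have hone : Nat.card (Sylow p G) = 1 := by rw [hn, zero_mul, add_zero]
    have hN : Subgroup.normalizer ((P : Subgroup G) : Set G) = ⊤ := by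
      have h1 := P.card_eq_index_normalizer
      rw [hone] at h1
      exact Subgroup.index_eq_one.1 h1.symm
    haveI hPn : (P : Subgroup G).Normal := Subgroup.normalizer_eq_top_iff.1 hN
    haveI : IsCyclic (P : Subgroup G) := isCyclic_of_prime_card h.cardP
    -- the automorphism group of `P` is abelian
    let φ : G →* MulAut (P : Subgroup G) := MulAut.conjNormal
    have hcomm : ∀ a b : MulAut (P : Subgroup G), a * b = b * a := by
      intro a b
      exact (IsCyclic.mulAutMulEquiv (P : Subgroup G)).injective (by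
        rw [map_mul, map_mul, mul_comm])
    have hker : (⊤ : Subgroup G) ≤ φ.ker := by
      rw [← h.perfect, commutator_def, Subgroup.commutator_le]
      intro a _ b _
      rw [MonoidHom.mem_ker, map_commutatorElement, commutatorElement_eq_one_iff_mul_comm]
      exact hcomm _ _
    have hle : (⊤ : Subgroup G) ≤ cP P := by
      intro a _
      refine Subgroup.mem_centralizer_iff.2 fun y hy => ?_
      have h1 : φ a = 1 := hker (Subgroup.mem_top a)
      have h2 := congrArg Subtype.val (DFunLike.congr_fun h1 (⟨y, hy⟩ : (P : Subgroup G)))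
      rw [MulAut.conjNormal_apply, MulAut.one_apply] at h2
      calc y * a = a * y * a⁻¹ * a := by rw [h2]
        _ = a * y := by group
    have := h.two_le_eN
    rw [show eN P = 1 from Subgroup.relIndex_eq_one.2 (le_trans le_top hle)] at this
    omega
  · exact h0

variable (hnr : ¬ Rep p n)
include hnr

theorem Ctx.degZ (B : Blk p P) {χ : IrrCharacter G} (hχ : χ ∈ B.Z) :
    (B.s χ = 1 → charDegree (χ : G → ℂ) = 1 + n * p) ∧
    (B.s χ = -1 → charDegree (χ : G → ℂ) = p - 1 ∨
      (eN P = p - 1 ∧ charDegree (χ : G → ℂ) = (p - 1) * (1 + n * p))) := by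
  obtain ⟨u, hu, hu1⟩ := h.exists_u
  obtain ⟨t, ht⟩ := h.eN_mul
  have hep : eN P ∣ p - 1 := ⟨t, ht.symm⟩
  have he : 0 < eN P := by have := h.two_le_eN; omega
  have hpos := CfsgLib.Chars17.irrDegree_pos χ
  have hne : charDegree (χ : G → ℂ) ≠ 1 := fun e => B.ne_one hχ (h.eq_principal e)
  have hdvd : charDegree (χ : G → ℂ) ∣ eN P * (1 + n * p) :=
    h.deg_dvd hn {χ} _ hpos (fun ψ hψ => by rw [Finset.mem_singleton.1 hψ]) hu hu1 (B.s χ)
      (B.sign hχ) (by rw [Finset.sum_singleton, B.value_u hχ hu hu1])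
  have hmod := B.deg_s hχ
  refine ⟨fun e => deg_plus hp.out hep he hnr hdvd (e ▸ hmod) (by omega), fun e => ?_⟩
  rw [e, sub_neg_eq_add] at hmod
  exact deg_minus hp.out hep he hnr hdvd hmod hpos

theorem Ctx.degY_dvd (B : Blk p P) {y : IrrCharacter G} (hy : y ∈ B.Y) :
    charDegree (y : G → ℂ) ∣ eN P * (1 + n * p) := by
  obtain ⟨u, hu, hu1⟩ := h.exists_u
  refine h.deg_dvd hn B.Y _ (CfsgLib.Chars17.irrDegree_pos y) (fun χ hχ => ?_) hu hu1 (-B.ε)
    (by rcases B.hε with e | e <;> rw [e] <;> simp) ?_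
  · have h1 := B.rel_one hχ
    rw [← B.rel_one hy] at h1
    have hε0 : B.ε ≠ 0 := by rcases B.hε with e | e <;> omega
    exact_mod_cast mul_left_cancel₀ hε0 h1
  · have := B.sumY u hu hu1 1 (one_mem _) (by rw [orderOf_one]; exact hp.out.not_dvd_one)
    rw [mul_one] at this
    rw [this, Int.cast_neg]

/-- There is a character of degree `p - 1`. -/
theorem Ctx.exists_small (B : Blk p P) :
    ∃ χ ∈ B.Z, B.s χ = -1 ∧ charDegree (χ : G → ℂ) = p - 1 := by
  classical
  by_contra! hcon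
  obtain ⟨t, ht⟩ := h.eN_mul
  have he2 := h.two_le_eN
  have hn0 := h.n_pos hn
  have hN0 : (0 : ℤ) < 1 + (n : ℤ) * p := by positivity
  have hdeg : ∀ χ ∈ B.Z, (charDegree (χ : G → ℂ) : ℤ) =
      if B.s χ = 1 then 1 + (n : ℤ) * p else ((p : ℤ) - 1) * (1 + n * p) := by
    intro χ hχ
    split_ifs with e
    · rw [(h.degZ hn hnr B hχ).1 e]; push_cast; rfl
    · have e' := (B.sign hχ).resolve_left e
      rcases (h.degZ hn hnr B hχ).2 e' with e1 | ⟨-, e1⟩
      · exact absurd e1 (hcon χ hχ e')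
      · rw [e1, Nat.cast_mul, Nat.cast_sub hp.out.one_le]; push_cast; rfl
  by_cases het : eN P = p - 1
  · have h0 := B.rel_Z het (g := 1) (by rw [orderOf_one]; exact hp.out.not_dvd_one)
    simp only [← CfsgLib.Chars17.cast_irrDegree] at h0
    have h1 : (1 : ℤ) + ∑ z ∈ B.Z, B.s z * (charDegree (z : G → ℂ) : ℤ) = 0 := by exact_mod_cast h0
    have h2 : (1 + (n : ℤ) * p) ∣ ∑ z ∈ B.Z, B.s z * (charDegree (z : G → ℂ) : ℤ) :=
      Finset.dvd_sum fun z hz => by
        rw [hdeg z hz]
        split_ifs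
        · exact dvd_mul_left _ _
        · exact Dvd.dvd.mul_left (dvd_mul_left _ _) _
    have h3 : (1 + (n : ℤ) * p) ∣ 1 := (dvd_add_left h2).1 (h1 ▸ dvd_zero _)
    have := Int.le_of_dvd one_pos h3
    have : 0 < (n : ℤ) * p := by have := hp.out.pos; positivity
    omega
  · have hZ : B.Z = B.X := by unfold Blk.Z; rw [if_neg het]
    have hdeg' : ∀ x ∈ B.X, B.εX x * (charDegree (x : G → ℂ) : ℤ) = 1 + (n : ℤ) * p := by
      intro x hx
      have hxZ : x ∈ B.Z := hZ ▸ hx
      rcases B.hεX x hx with e | e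
      · rw [e, one_mul, hdeg x hxZ, if_pos (by rw [B.s_of_mem hx, e])]
      · exfalso
        rcases (h.degZ hn hnr B hxZ).2 (by rw [B.s_of_mem hx, e]) with e1 | ⟨e1, -⟩
        · exact hcon x hxZ (by rw [B.s_of_mem hx, e]) e1
        · exact het e1
    obtain ⟨y, hy⟩ := Finset.card_pos.1 (show 0 < B.Y.card from Nat.pos_of_ne_zero fun e => by
      have := B.card_Y
      rw [e, mul_zero] at this
      have := hp.out.two_le
      omega)
    have hr := B.rel_one hy
    rw [Finset.sum_congr rfl hdeg', Finset.sum_const, nsmul_eq_mul,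
      show ((B.X.card : ℕ) : ℤ) = (eN P : ℤ) - 1 by have := B.card_X; omega] at hr
    have hd := Int.natCast_dvd_natCast.2 (h.degY_dvd hn hnr B hy)
    have he2' : (2 : ℤ) ≤ eN P := by exact_mod_cast he2
    have hdpos : (0 : ℤ) < (charDegree (y : G → ℂ) : ℤ) := by
      exact_mod_cast CfsgLib.Chars17.irrDegree_pos y
    rcases B.hε with e | e <;> rw [e] at hr
    · push_cast at hd
      obtain ⟨q, hq⟩ := hd
      rw [one_mul] at hr
      have hnp : (0 : ℤ) < (n : ℤ) * p := by have := hp.out.pos; positivity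
      rw [hr] at hq
      rcases lt_trichotomy q 1 with hq1 | hq1 | hq1
      · nlinarith [mul_le_mul_of_nonneg_left (show q ≤ 0 by omega) (hr ▸ hdpos.le)]
      · rw [hq1, mul_one] at hq
        nlinarith
      · nlinarith [mul_le_mul_of_nonneg_left (show (2 : ℤ) ≤ q by omega) (hr ▸ hdpos.le)]
    · nlinarith

/-- The Sylow subgroup is self-centralizing. -/
theorem Ctx.cP_eq (B : Blk p P) : cP P = (P : Subgroup G) := by
  classical
  obtain ⟨χ, hχ, hs, hd⟩ := h.exists_small hn hnr B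
  obtain ⟨L, hL⟩ := CfsgLib.CyclicDefect.exists_loc P h.cardP
  subst hL
  letI := Fintype.ofFinite L.C
  letI := Fintype.ofFinite L.O
  have hp1 : ((p - 1 : ℕ) : ℂ) = (p : ℂ) - 1 := by rw [Nat.cast_sub hp.out.one_le, Nat.cast_one]
  have hχ1 : (χ : G → ℂ) 1 = (p : ℂ) - 1 := by rw [← CfsgLib.Chars17.cast_irrDegree, hd, hp1]
  obtain ⟨K, hK, hKmem⟩ : ∃ K : Subgroup G, K.Normal ∧ ∀ g, g ∈ K ↔ (χ : G → ℂ) g = (χ : G → ℂ) 1 :=
    ⟨CfsgLib.Chars17.irrKer χ, inferInstance, fun g => CfsgLib.Chars17.mem_irrKer⟩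
  have hKbot : K = ⊥ := by
    refine h.minimal K hK fun hdv => ?_
    obtain ⟨z, hz⟩ := exists_prime_orderOf_dvd_card' (G := K) p hdv
    have hpg : IsPGroup p (Subgroup.zpowers (z : G)) := IsPGroup.of_card (n := 1) (by
      rw [Nat.card_zpowers, Subgroup.orderOf_coe, hz, pow_one])
    obtain ⟨Q, hQ⟩ := hpg.exists_le_sylow
    obtain ⟨c, hc⟩ := MulAction.exists_smul_eq G Q L.P
    have hmem : c * (z : G) * c⁻¹ ∈ (L.P : Subgroup G) := by
      rw [← hc]
      exact Subgroup.smul_mem_pointwise_smul (z : G) (MulAut.conj c) _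
        (hQ (Subgroup.mem_zpowers (z : G)))
    have hne : c * (z : G) * c⁻¹ ≠ 1 := fun e => by
      rw [conj_eq_one_iff] at e
      rw [show z = 1 from Subtype.ext e, orderOf_one] at hz
      exact hp.out.ne_one hz.symm
    have h1 := (hKmem _).1 (hK.conj_mem _ z.2 c)
    rw [B.value_u hχ hmem hne, hs, hχ1] at h1
    push_cast at h1
    have : (p : ℂ) = 0 := by linear_combination -h1
    exact hp.out.ne_zero (by exact_mod_cast this)
  -- the average over the centralizer
  obtain ⟨d, hd'⟩ := classInner_char_nat (CfsgLib.CharGalois.isCharacter_comp (irr_isCharacter χ)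
    L.C.subtype) (isCharacter_one (G := L.C))
  rw [classInner, inv_mul_eq_iff_eq_mul₀ (Nat.cast_ne_zero.2 Nat.card_pos.ne'), L.sum_C] at hd'
  simp only [Pi.one_apply, map_one, mul_one, Subgroup.coe_subtype, L.coe_el] at hd'
  have hterm : ∀ i ∈ (Finset.univ : Finset (Fin p)), ∀ y : L.O,
      (χ : G → ℂ) (L.x ^ (i : ℕ) * y) = if (i : ℕ) = 0 then (χ : G → ℂ) y else (-1 : ℂ) := by
    intro i _ y
    obtain ⟨hy1, hy2⟩ := L.mem_O.1 y.2
    split_ifs with e
    · rw [e, pow_zero, one_mul]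
    · rw [B.value_s hχ (pow_mem L.hxP _) (L.x_pow_ne (Nat.pos_of_ne_zero e) i.2) hy1 hy2, hs,
        Int.cast_neg, Int.cast_one]
  have hre : ∀ y : L.O, ((χ : G → ℂ) y).re ≤ (p : ℝ) - 1 := fun y => by
    refine le_trans (Complex.re_le_norm _) (le_trans (norm_le_degree_of_isCharacter
      (irr_isCharacter χ) _) ?_)
    rw [← CfsgLib.Chars17.cast_irrDegree, hd, Complex.norm_natCast, Nat.cast_sub hp.out.one_le,
      Nat.cast_one]
  have hsum : ∑ y : L.O, ((p : ℝ) - 1 - ((χ : G → ℂ) y).re) ≤ 0 := by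
    have e := congrArg Complex.re hd'
    have hd0 : (0 : ℝ) ≤ ((Nat.card L.C : ℂ) * (d : ℂ)).re := by
      rw [← Nat.cast_mul, Complex.natCast_re]
      exact Nat.cast_nonneg _
    rw [← e] at hd0
    simp only [Complex.re_sum] at hd0
    obtain ⟨m, hm⟩ : ∃ m, p = m + 1 := ⟨p - 1, by have := hp.out.two_le; omega⟩
    subst hm
    have hrow : ∀ y : L.O, ∑ i : Fin (m + 1), ((χ : G → ℂ) (L.x ^ (i : ℕ) * y)).re =
        ((χ : G → ℂ) y).re - m := fun y => by
      rw [Fin.sum_univ_succ, hterm 0 (Finset.mem_univ _) y, if_pos (show ((0 : Fin (m + 1)) : ℕ) = 0 from rfl),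
        Finset.sum_congr rfl fun i _ => show _ = (-1 : ℝ) by
          rw [hterm i.succ (Finset.mem_univ _) y, if_neg (by simp)]; simp]
      simp [sub_eq_add_neg]
    rw [Finset.sum_comm, Finset.sum_congr rfl fun y _ => hrow y, Finset.sum_sub_distrib] at hd0
    rw [Finset.sum_sub_distrib]
    push_cast
    simp only [add_sub_cancel_right]
    linarith
  have hzero := (Finset.sum_eq_zero_iff_of_nonneg fun y _ => by linarith [hre y]).1
    (le_antisymm hsum (Finset.sum_nonneg fun y _ => by linarith [hre y]))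
  have hO : ∀ y : L.O, y = 1 := by
    intro y
    have e := hzero y (Finset.mem_univ _)
    have hnorm := norm_le_degree_of_isCharacter (irr_isCharacter χ) (y : G)
    rw [← CfsgLib.Chars17.cast_irrDegree, hd, Complex.norm_natCast, Nat.cast_sub hp.out.one_le,
      Nat.cast_one] at hnorm
    have him : ((χ : G → ℂ) y).im = 0 := by
      have h1 := Complex.normSq_apply ((χ : G → ℂ) y)
      rw [Complex.normSq_eq_norm_sq] at h1
      nlinarith [norm_nonneg ((χ : G → ℂ) (y : G))]
    have hy : (y : G) ∈ K := by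
      rw [hKmem, hχ1]
      refine Complex.ext ?_ ?_
      · rw [Complex.sub_re, Complex.natCast_re, Complex.one_re]; linarith
      · rw [Complex.sub_im, Complex.natCast_im, Complex.one_im, him, sub_zero]
    rw [hKbot, Subgroup.mem_bot] at hy
    exact Subtype.ext hy
  haveI : Subsingleton L.O := ⟨fun a b => by rw [hO a, hO b]⟩
  refine (Subgroup.eq_of_le_of_card_ge L.P_le_C ?_).symm
  rw [L.card_C, Nat.card_of_subsingleton (1 : L.O), mul_one]
  exact L.hP.ge

end CfsgLib.BrauerArtin
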