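import Cfsg.Agent.Lib.BrauerArtin.Degrees
import Cfsg.Agent.Lib.PermPrime.SelfCentralizing
import Cfsg.Agent.Lib.PermPrime.Wedge
import Cfsg.Agent.Lib.Characters.FrobSchur
import Cfsg.Agent.Lib.Characters.Galois

/-!
# Sums over the singular elements
-/

set_option autoImplicit false
set_option linter.style.haveILetI false
set_option linter.unusedSectionVars false

noncomputable section

namespace CfsgLib.BrauerArtin

open Cfsg CfsgLib.Characters CfsgLib.FrobSchur
open scoped ComplexConjugate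

universe u

variable {G : Type u} [Group G] [Fintype G] {p : ℕ} [hp : Fact p.Prime] {P : Sylow p G}

open Classical in
/-- The elements of order divisible by `p`. -/
def sing (p : ℕ) (G : Type u) [Group G] [Fintype G] : Finset G :=
  Finset.univ.filter fun g => p ∣ orderOf g

open Classical in
/-- The elements of order prime to `p`. -/
def reg (p : ℕ) (G : Type u) [Group G] [Fintype G] : Finset G :=
  Finset.univ.filter fun g => ¬ p ∣ orderOf g

theorem mem_sing {g : G} : g ∈ sing p G ↔ p ∣ orderOf g := by simp [sing]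

theorem mem_reg {g : G} : g ∈ reg p G ↔ ¬ p ∣ orderOf g := by simp [reg]

theorem sum_split {R : Type*} [AddCommMonoid R] (f : G → R) :
    ∑ g : G, f g = ∑ g ∈ sing p G, f g + ∑ g ∈ reg p G, f g := by
  classical
  exact (Finset.sum_filter_add_sum_filter_not _ _ _).symm

theorem sum_irr_eq_zero {ψ : IrrCharacter G} (hψ : ψ ≠ principalIrr G) :
    ∑ g : G, (ψ : G → ℂ) g = 0 := by
  have e := classInner_irr_ne ψ.2 (principalIrr G).2 fun e => hψ (Subtype.ext e)
  rw [classInner, inv_mul_eq_iff_eq_mul₀ (Nat.cast_ne_zero.2 Nat.card_pos.ne'), mul_zero] at e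
  simpa using e

variable (h : Ctx p P) (hC : cP P = (P : Subgroup G)) {n : ℕ}
  (hn : Nat.card (Sylow p G) = 1 + n * p)
include h hC

theorem Ctx.value_sing {f : G → ℂ} (hf : IsClassFunction G f) {c : ℂ}
    (hc : ∀ u ∈ (P : Subgroup G), u ≠ 1 → f u = c) {g : G} (hg : p ∣ orderOf g) : f g = c := by
  obtain ⟨d, hd, hne⟩ := CfsgLib.PermPrime.exists_conj_mem P h.cardP hC hg
  rw [← hf g d]
  exact hc _ hd hne

theorem Ctx.orderOf_sing {g : G} (hg : p ∣ orderOf g) : orderOf g = p := by
  obtain ⟨d, hd, hne⟩ := CfsgLib.PermPrime.exists_conj_mem P h.cardP hC hg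
  have := h.orderOf_of_mem hd hne
  rwa [← MulAut.conj_apply, MulEquiv.orderOf_eq] at this

theorem Blk.value_g (B : Blk p P) {χ : IrrCharacter G} (hχ : χ ∈ B.Z) {g : G}
    (hg : p ∣ orderOf g) : (χ : G → ℂ) g = (B.s χ : ℂ) :=
  h.value_sing hC (irr_isClassFunction χ) (fun _ hu hu1 => B.value_u hχ hu hu1) hg

include hn

theorem Ctx.card_sing : (sing p G).card = (1 + n * p) * (p - 1) := by
  classical
  rw [← hn]
  exact CfsgLib.PermPrime.card_singular P h.cardP hC

theorem Ctx.card_group : Nat.card G = p * (eN P * (1 + n * p)) := by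
  rw [← h.index_cP hn, ← (cP P).card_mul_index, hC]
  exact congrArg (· * _) h.cardP

/-- The sum of an exceptional character over the singular elements. -/
theorem Ctx.sum_sing_Y (B : Blk p P) {y : IrrCharacter G} (hy : y ∈ B.Y) :
    ∑ g ∈ sing p G, (y : G → ℂ) g = -(B.ε : ℂ) * ((eN P * (1 + n * p) : ℕ) : ℂ) := by
  classical
  have hy0 := sum_irr_eq_zero (ψ := y) fun e => B.one_Y (e ▸ hy)
  rw [sum_split (p := p)] at hy0
  have hε : (B.ε : ℂ) * (B.ε : ℂ) = 1 := by rcases B.hε with e | e <;> rw [e] <;> simp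
  have hreg : (B.ε : ℂ) * ∑ g ∈ reg p G, (y : G → ℂ) g =
      ((reg p G).card : ℂ) - (B.X.card : ℂ) * ((sing p G).card : ℂ) := by
    rw [Finset.mul_sum, Finset.sum_congr rfl fun g hg => B.rel y hy g (mem_reg.1 hg),
      Finset.sum_add_distrib, Finset.sum_const, nsmul_one, Finset.sum_comm,
      Finset.sum_congr rfl fun x hx => show _ = -((sing p G).card : ℂ) by
        have hx0 := sum_irr_eq_zero (ψ := x) fun e => B.one_X (e ▸ hx)
        rw [sum_split (p := p), Finset.sum_congr rfl fun g hg =>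
          h.value_sing hC (irr_isClassFunction x) (c := (B.εX x : ℂ)) (fun u hu hu1 => by
            have := B.value_u (B.X_subset hx) hu hu1
            rwa [B.s_of_mem hx] at this) (mem_sing.1 hg), Finset.sum_const, nsmul_eq_mul] at hx0
        rw [← Finset.mul_sum]
        have h1 : (B.εX x : ℂ) * (B.εX x : ℂ) = 1 := by
          rcases B.hεX x hx with e | e <;> rw [e] <;> simp
        linear_combination (B.εX x : ℂ) * hx0 - ((sing p G).card : ℂ) * h1,
      Finset.sum_const, nsmul_eq_mul]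
    ring
  have hcard : ((sing p G).card : ℂ) + ((reg p G).card : ℂ) = (Nat.card G : ℂ) := by
    have := sum_split (p := p) (G := G) (fun _ => (1 : ℂ))
    simpa [Nat.card_eq_fintype_card] using this.symm
  rw [h.card_sing hC hn] at hcard hreg
  rw [h.card_group hC hn] at hcard
  have hX : (B.X.card : ℂ) + 1 = (eN P : ℂ) := by exact_mod_cast B.card_X
  push_cast [Nat.cast_sub hp.out.one_le] at hcard hreg ⊢
  linear_combination hy0 - (B.ε : ℂ) * hreg + (∑ g ∈ reg p G, (y : G → ℂ) g) * hε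
    - (B.ε : ℂ) * hcard + (B.ε : ℂ) * ((1 + (n : ℂ) * p) * ((p : ℂ) - 1)) * hX

/-- The multiplicities of a class function constant on the singular elements. -/
theorem Ctx.decomp (B : Blk p P) {φ : G → ℂ} (m : IrrCharacter G → ℤ)
    (hexp : ∀ z, φ z = ∑ ψ : IrrCharacter G, (m ψ : ℂ) * (ψ : G → ℂ) z) (c : ℤ)
    (hc : ∀ g, p ∣ orderOf g → φ g = (c : ℂ)) :
    (B.Y.card : ℤ) * (c - m (principalIrr G) - ∑ x ∈ B.X, B.εX x * m x) =
      -B.ε * ∑ y ∈ B.Y, m y := by
  classical
  have hs := Finset.sum_congr (s₁ := sing p G) rfl fun g hg => hc g (mem_sing.1 hg)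
  rw [Finset.sum_congr rfl fun g _ => hexp g, Finset.sum_comm] at hs
  set S : Finset (IrrCharacter G) := insert (principalIrr G) (B.X ∪ B.Y) with hS
  rw [← Finset.sum_sdiff (Finset.subset_univ S),
    Finset.sum_eq_zero (s := Finset.univ \ S) fun ψ hψ => Finset.sum_eq_zero fun g hg => by
      rw [hS, Finset.mem_sdiff, Finset.mem_insert, Finset.mem_union, not_or, not_or] at hψ
      rw [h.value_sing hC (irr_isClassFunction ψ) (c := 0)
        (fun u hu hu1 => B.vanish ψ hψ.2.1 hψ.2.2.1 hψ.2.2.2 hC u hu hu1) (mem_sing.1 hg), mul_zero],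
    zero_add, hS, Finset.sum_insert (by rw [Finset.mem_union, not_or]; exact ⟨B.one_X, B.one_Y⟩),
    Finset.sum_union B.disj,
    Finset.sum_congr rfl (s₁ := B.X) fun x hx => show _ =
      ((B.εX x * m x : ℤ) : ℂ) * ((sing p G).card : ℂ) by
        rw [Finset.sum_congr rfl fun g hg => by
          rw [B.value_g h hC (B.X_subset hx) (mem_sing.1 hg)], B.s_of_mem hx, Finset.sum_const,
          nsmul_eq_mul]
        push_cast; ring,
    Finset.sum_congr rfl (s₁ := B.Y) fun y hy => show _ =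
      ((m y : ℤ) : ℂ) * (-(B.ε : ℂ) * ((eN P * (1 + n * p) : ℕ) : ℂ)) by
        rw [← Finset.mul_sum, h.sum_sing_Y hC hn B hy],
    ← Finset.sum_mul, ← Finset.sum_mul] at hs
  simp only [principalIrr_apply, mul_one, Finset.sum_const, nsmul_eq_mul, h.card_sing hC hn] at hs
  have hp1 : ((p - 1 : ℕ) : ℂ) = (eN P : ℂ) * (B.Y.card : ℂ) := by
    rw [← B.card_Y]; push_cast; rfl
  rw [Nat.cast_mul, hp1] at hs
  have hne : (((eN P * (1 + n * p) : ℕ)) : ℂ) ≠ 0 := by
    have := h.two_le_eN
    exact Nat.cast_ne_zero.2 (Nat.mul_pos (by omega) (by omega)).ne'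
  have e : (((B.Y.card : ℤ) * (c - m (principalIrr G) - ∑ x ∈ B.X, B.εX x * m x) : ℤ) : ℂ) =
      ((-B.ε * ∑ y ∈ B.Y, m y : ℤ) : ℂ) := by
    apply mul_left_cancel₀ hne
    push_cast at hs ⊢
    linear_combination -hs
  exact_mod_cast e

/-- The multiplicities of a class function constant on the singular elements, for `e = p - 1`. -/
theorem Ctx.decomp_full (B : Blk p P) (he : eN P = p - 1) {φ : G → ℂ} (m : IrrCharacter G → ℤ)
    (hexp : ∀ z, φ z = ∑ ψ : IrrCharacter G, (m ψ : ℂ) * (ψ : G → ℂ) z) (c : ℤ)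
    (hc : ∀ g, p ∣ orderOf g → φ g = (c : ℂ)) :
    c = m (principalIrr G) + ∑ z ∈ B.Z, B.s z * m z := by
  classical
  obtain ⟨u, hu, hu1⟩ := h.exists_u
  have hup : p ∣ orderOf u := dvd_of_eq (h.orderOf_of_mem hu hu1).symm
  have h1Z : principalIrr G ∉ B.Z := fun e => B.ne_one e rfl
  have e := hexp u
  rw [hc u hup, ← Finset.sum_sdiff (Finset.subset_univ (insert (principalIrr G) B.Z)),
    Finset.sum_eq_zero fun ψ hψ => by
      rw [Finset.mem_sdiff, Finset.mem_insert, not_or, Blk.Z, if_pos he, Finset.mem_union,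
        not_or] at hψ
      rw [B.vanish ψ hψ.2.1 hψ.2.2.1 hψ.2.2.2 hC u hu hu1, mul_zero],
    zero_add, Finset.sum_insert h1Z,
    Finset.sum_congr rfl fun z hz => show _ = ((B.s z * m z : ℤ) : ℂ) by
      rw [B.value_g h hC hz hup]; push_cast; ring,
    principalIrr_apply, mul_one, ← Int.cast_sum, ← Int.cast_add, Int.cast_inj] at e
  exact e

end CfsgLib.BrauerArtin
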